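import Cfsg.Agent.H70.Conj
import Cfsg.Agent.H68.Sylow
import Cfsg.Agent.H1.Cores
import Cfsg.Agent.H66.Isolated
import Cfsg.Prelude.Def_SubgroupEmbedding

/-!
The condition on an abelian `2`-subgroup `H` used for the factorisation `G = N(H) O(G)`:
`H` and any of its conjugates lie in a subgroup with a normal complement of odd order to `H`.
-/

set_option autoImplicit false
set_option linter.style.haveILetI false

namespace H68.EC

open H70

universe u

variable {G : Type u} [Group G]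

/-- `H` and each conjugate of it lie in `K H` for an odd order `K` inside the join. -/
def Cond (H : Subgroup G) : Prop :=
  ∀ g : G, ∃ K : Subgroup G, K ≤ H ⊔ cj g H ∧ Odd (Nat.card K) ∧
    H ⊔ cj g H ≤ Subgroup.normalizer (K : Set G) ∧ cj g H ≤ K ⊔ H

/-- `G = N(H) O(G)` elementwise. -/
def Factorises (H : Subgroup G) : Prop :=
  ∀ g : G, ∃ m ∈ Cfsg.pPrimeCore 2 G, m⁻¹ * g ∈ Subgroup.normalizer (H : Set G)

theorem exists_mul_of_mem_sup {H K : Subgroup G} (hH : H ≤ Subgroup.normalizer (K : Set G)) {x : G}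
    (hx : x ∈ K ⊔ H) : ∃ k ∈ K, ∃ h ∈ H, x = k * h := by
  have h1 : x ∈ (↑(K ⊔ H) : Set G) := hx
  rw [Subgroup.coe_mul_of_right_le_normalizer_left K H hH] at h1
  obtain ⟨k, hk, h, hh, e⟩ := h1
  exact ⟨k, hk, h, hh, e.symm⟩

theorem odd_orderOf_of_mem {K : Subgroup G} (hK : Odd (Nat.card K)) {x : G} (hx : x ∈ K) :
    Odd (orderOf x) :=
  hK.of_dvd_nat (Subgroup.orderOf_mk x hx ▸ orderOf_dvd_natCard _)

theorem eq_one_of_pow_two_pow {x : G} (hodd : Odd (orderOf x)) {n : ℕ} (h : x ^ 2 ^ n = 1) :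
    x = 1 := by
  rw [← orderOf_eq_one_iff]
  have h1 := orderOf_dvd_of_pow_eq_one h
  exact (Nat.Coprime.pow_right n (Nat.coprime_two_right.2 hodd)).eq_one_of_dvd h1

theorem eq_one_of_mem {H K : Subgroup G} (hH : IsPGroup 2 H) (hK : Odd (Nat.card K)) {x : G}
    (hxH : x ∈ H) (hxK : x ∈ K) : x = 1 := by
  obtain ⟨n, hn⟩ := hH ⟨x, hxH⟩
  exact eq_one_of_pow_two_pow (odd_orderOf_of_mem hK hxK) (n := n) (congrArg Subtype.val hn)

theorem inf_eq_bot {H K : Subgroup G} (hH : IsPGroup 2 H) (hK : Odd (Nat.card K)) : K ⊓ H = ⊥ :=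
  (Subgroup.eq_bot_iff_forall _).2 fun _ hx => eq_one_of_mem hH hK hx.2 hx.1

theorem odd_card_of_le [Finite G] {A B : Subgroup G} (h : A ≤ B) (hB : Odd (Nat.card B)) :
    Odd (Nat.card A) :=
  hB.of_dvd_nat (Subgroup.card_dvd_of_le h)

theorem odd_card_map {G' : Type*} [Group G'] {K : Subgroup G} (hK : Odd (Nat.card K))
    (f : G →* G') : Odd (Nat.card (K.map f)) :=
  hK.of_dvd_nat (Subgroup.card_map_dvd K f)

theorem odd_pPrimeCore [Finite G] : Odd (Nat.card (Cfsg.pPrimeCore 2 G)) := by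
  rw [← Nat.coprime_two_right]
  exact H1.card_pPrimeCore_coprime 2 G

theorem card_sup_dvd [Finite G] {A B : Subgroup G} (hA : A ≤ Subgroup.normalizer (B : Set G)) :
    Nat.card ↥(B ⊔ A) ∣ Nat.card B * Nat.card A := by
  have hB : B ≤ Subgroup.normalizer (B : Set G) := Subgroup.le_normalizer
  haveI := Subgroup.normal_subgroupOf_of_le_normalizer (sup_le hB hA)
  have h := H1.card_sup_dvd_mul (A.subgroupOf (B ⊔ A)) (B.subgroupOf (B ⊔ A))
  rw [sup_comm, ← Subgroup.subgroupOf_sup le_sup_left le_sup_right, Subgroup.subgroupOf_self,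
    Subgroup.card_top, Nat.card_congr (Subgroup.subgroupOfEquivOfLe le_sup_right).toEquiv,
    Nat.card_congr (Subgroup.subgroupOfEquivOfLe le_sup_left).toEquiv] at h
  rw [mul_comm, sup_comm B A]
  exact h

theorem odd_card_sup [Finite G] {A B : Subgroup G} (hA : A ≤ Subgroup.normalizer (B : Set G))
    (hoA : Odd (Nat.card A)) (hoB : Odd (Nat.card B)) : Odd (Nat.card ↥(B ⊔ A)) :=
  (hoB.mul hoA).of_dvd_nat (card_sup_dvd hA)

/-- Two `2`-subgroups of the same order in `K H`, `K` of odd order, are conjugate by `K`. -/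
theorem exists_conj_of_le_sup [Finite G] {H H' K : Subgroup G} (hH : IsPGroup 2 H)
    (hH' : IsPGroup 2 H') (hKodd : Odd (Nat.card K)) (hnorm : H ≤ Subgroup.normalizer (K : Set G))
    (hle : H' ≤ K ⊔ H) (hcard : Nat.card H' = Nat.card H) : ∃ k ∈ K, cj k H = H' := by
  haveI : Fact (Nat.Prime 2) := ⟨Nat.prime_two⟩
  set L := K ⊔ H with hL
  obtain ⟨R, hR⟩ := (hH.of_equiv (Subgroup.subgroupOfEquivOfLe
    (le_sup_right : H ≤ L)).symm).exists_le_sylow
  have hRH : (R : Subgroup L).map L.subtype = H := by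
    refine le_antisymm ?_ fun x hx =>
      ⟨⟨x, le_sup_right (a := K) hx⟩, hR (show (⟨x, le_sup_right (a := K) hx⟩ : L) ∈ _ from hx), rfl⟩
    rintro x ⟨r, hr, rfl⟩
    obtain ⟨n, hn⟩ := hH.exists_card_eq
    obtain ⟨m, hm⟩ := R.2.exists_card_eq
    have h1 : Nat.card (R : Subgroup L) ∣ Nat.card K * Nat.card H :=
      (Subgroup.card_subgroup_dvd_card _).trans (card_sup_dvd hnorm)
    have hco : (Nat.card (R : Subgroup L)).Coprime (Nat.card K) := by
      rw [hm]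
      exact Nat.Coprime.pow_left m (Nat.coprime_two_left.2 hKodd)
    have h2 : Nat.card (R : Subgroup L) ∣ Nat.card H := hco.dvd_of_dvd_mul_left h1
    have heq : H.subgroupOf L = (R : Subgroup L) := Subgroup.eq_of_le_of_card_ge hR (by
      rw [Nat.card_congr (Subgroup.subgroupOfEquivOfLe (le_sup_right : H ≤ L)).toEquiv]
      exact Nat.le_of_dvd Nat.card_pos h2)
    exact (heq ▸ hr : r ∈ H.subgroupOf L)
  obtain ⟨c, hc, hcH⟩ := H68.exists_cj_le_of_sylow R hH' hle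
  rw [hRH] at hcH
  have he : cj c H' = H := Subgroup.eq_of_le_of_card_ge hcH (by rw [card_cj, hcard])
  obtain ⟨k, hk, h, hh, hkh⟩ := exists_mul_of_mem_sup hnorm (inv_mem hc)
  refine ⟨k, hk, ?_⟩
  rw [cj_eq_iff] at he
  rw [he, hkh, ← cj_cj, cj_of_mem hh]

/-! ### Inheritance -/

theorem map_cj {G' : Type*} [Group G'] (f : G →* G') (g : G) (H : Subgroup G) :
    (cj g H).map f = cj (f g) (H.map f) := by
  simp only [cj, Subgroup.map_map]
  congr 1
  ext x
  simp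

theorem Cond.map {G' : Type*} [Group G'] {H : Subgroup G} (hc : Cond H) {f : G →* G'}
    (hf : Function.Surjective f) : Cond (H.map f) := by
  intro g'
  obtain ⟨g, rfl⟩ := hf g'
  obtain ⟨K, hK1, hK2, hK3, hK4⟩ := hc g
  rw [← map_cj, ← Subgroup.map_sup]
  refine ⟨K.map f, Subgroup.map_mono hK1, odd_card_map hK2 f, ?_, ?_⟩
  · exact (Subgroup.map_mono hK3).trans (Subgroup.le_normalizer_map f)
  · rw [← Subgroup.map_sup]
    exact Subgroup.map_mono hK4

theorem Cond.subgroupOf {H S : Subgroup G} (hc : Cond H) (hHS : H ≤ S) :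
    Cond (H.subgroupOf S) := by
  intro g
  obtain ⟨K, hK1, hK2, hK3, hK4⟩ := hc g
  have hg : cj (g : G) H ≤ S := fun x hx => by
    have h1 := hHS (mem_cj.1 hx)
    have h2 := mul_mem (mul_mem g.2 h1) (inv_mem g.2)
    simpa [mul_assoc] using h2
  have hcj : cj g (H.subgroupOf S) = (cj (g : G) H).subgroupOf S := by
    ext x
    rw [mem_cj, Subgroup.mem_subgroupOf, Subgroup.mem_subgroupOf, mem_cj]
    push_cast
    rfl
  have hKS : K ≤ S := hK1.trans (sup_le hHS hg)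
  rw [hcj, ← Subgroup.subgroupOf_sup hHS hg]
  refine ⟨K.subgroupOf S, fun x hx => hK1 hx, ?_, fun x hx => ?_, ?_⟩
  · rwa [Nat.card_congr (Subgroup.subgroupOfEquivOfLe hKS).toEquiv]
  · rw [Subgroup.mem_normalizer_iff]
    intro y
    exact Subgroup.mem_normalizer_iff.1 (hK3 hx) (y : G)
  · rw [← Subgroup.subgroupOf_sup hKS hHS]
    exact fun x hx => hK4 hx

theorem isPGroup_subgroupOf {H S : Subgroup G} (hH : IsPGroup 2 H) (hHS : H ≤ S) :
    IsPGroup 2 (H.subgroupOf S) :=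
  hH.of_equiv (Subgroup.subgroupOfEquivOfLe hHS).symm

theorem comm_subgroupOf {H S : Subgroup G} (h : ∀ a ∈ H, ∀ b ∈ H, a * b = b * a) :
    ∀ a ∈ H.subgroupOf S, ∀ b ∈ H.subgroupOf S, a * b = b * a :=
  fun a ha b hb => Subtype.ext (h a ha b hb)

theorem comm_map {G' : Type*} [Group G'] {H : Subgroup G} (h : ∀ a ∈ H, ∀ b ∈ H, a * b = b * a)
    (f : G →* G') : ∀ a ∈ H.map f, ∀ b ∈ H.map f, a * b = b * a := by
  rintro _ ⟨a, ha, rfl⟩ _ ⟨b, hb, rfl⟩
  rw [← map_mul, ← map_mul, h a ha b hb]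

theorem sq_map {G' : Type*} [Group G'] {H : Subgroup G} (h : ∀ a ∈ H, a * a = 1)
    (f : G →* G') : ∀ a ∈ H.map f, a * a = 1 := by
  rintro _ ⟨a, ha, rfl⟩
  rw [← map_mul, h a ha, map_one]

theorem comm_of_sq {H : Subgroup G} (h : ∀ a ∈ H, a * a = 1) :
    ∀ a ∈ H, ∀ b ∈ H, a * b = b * a := by
  intro a ha b hb
  have hab := h _ (mul_mem ha hb)
  calc a * b = (a * b)⁻¹ := (inv_eq_of_mul_eq_one_left hab).symm
    _ = b⁻¹ * a⁻¹ := mul_inv_rev a b
    _ = b * a := by rw [inv_eq_of_mul_eq_one_left (h b hb), inv_eq_of_mul_eq_one_left (h a ha)]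

theorem isPGroup_of_sq {H : Subgroup G} (h : ∀ a ∈ H, a * a = 1) : IsPGroup 2 H :=
  fun a => ⟨1, Subtype.ext (by simpa [pow_two] using h a a.2)⟩

/-! ### Consequences -/

/-- `(S)`: a conjugate of an element of `H` lying in the normaliser lies in `H`. -/
theorem conj_mem_of_normalizer [Finite G] {H : Subgroup G} (hH : IsPGroup 2 H) (hc : Cond H)
    {t g : G} (ht : t ∈ H) (hn : g * t * g⁻¹ ∈ Subgroup.normalizer (H : Set G)) :
    g * t * g⁻¹ ∈ H := by
  obtain ⟨K, -, hK2, hK3, hK4⟩ := hc g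
  have hHK : H ≤ Subgroup.normalizer (K : Set G) := le_sup_left.trans hK3
  obtain ⟨k, hk, h, hh, e⟩ := exists_mul_of_mem_sup hHK
    (hK4 (show g * t * g⁻¹ ∈ cj g H from mem_cj.2 (by simpa [mul_assoc] using ht)))
  have hkn : k ∈ Subgroup.normalizer (H : Set G) := by
    have : k = g * t * g⁻¹ * h⁻¹ := by rw [e, mul_inv_cancel_right]
    rw [this]
    exact mul_mem hn (Subgroup.le_normalizer (inv_mem hh))
  have hkh : k * h = h * k := by
    have h1 : k * h * k⁻¹ * h⁻¹ = 1 := by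
      refine eq_one_of_mem hH hK2 (mul_mem ((Subgroup.mem_normalizer_iff.1 hkn h).1 hh) (inv_mem hh)) ?_
      have h3 := (Subgroup.mem_normalizer_iff.1 (hHK hh) k⁻¹).1 (inv_mem hk)
      have h4 := mul_mem hk h3
      simpa [mul_assoc] using h4
    calc k * h = k * h * k⁻¹ * h⁻¹ * (h * k) := by group
      _ = h * k := by rw [h1, one_mul]
  obtain ⟨n, hnp⟩ := hH ⟨t, ht⟩
  obtain ⟨m, hmp⟩ := hH ⟨h, hh⟩
  have hn' : t ^ 2 ^ n = 1 := congrArg Subtype.val hnp
  have hm' : h ^ 2 ^ m = 1 := congrArg Subtype.val hmp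
  have hpow : (g * t * g⁻¹) ^ 2 ^ (n + m) = 1 := by
    rw [conj_pow, pow_add, pow_mul, hn', one_pow, mul_one, mul_inv_cancel]
  rw [e, (show Commute k h from hkh).mul_pow, show h ^ 2 ^ (n + m) = 1 by
    rw [pow_add, mul_comm, pow_mul, hm', one_pow], mul_one] at hpow
  rw [e, eq_one_of_pow_two_pow (odd_orderOf_of_mem hK2 hk) hpow, one_mul]
  exact hh

/-- `(W)`. -/
theorem cj_eq_of_le_normalizer [Finite G] {H : Subgroup G} (hH : IsPGroup 2 H) (hc : Cond H)
    {g : G} (h : cj g H ≤ Subgroup.normalizer (H : Set G)) : cj g H = H := by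
  refine eq_of_cj_le fun x hx => ?_
  have h1 := mem_cj.1 hx
  have h2 := conj_mem_of_normalizer hH hc h1 (g := g) (by simpa [mul_assoc] using h hx)
  simpa [mul_assoc] using h2

theorem normal_of_forall_cj {H : Subgroup G} (h : ∀ g : G, cj g H = H) : H.Normal :=
  Subgroup.normalizer_eq_top_iff.1 (eq_top_iff.2 fun g _ => cj_eq_self_iff.1 (h g))

/-- A `2`-group containing `H` normalises it. -/
theorem le_normalizer_of_le [Finite G] {H P : Subgroup G} (hH : IsPGroup 2 H) (hc : Cond H)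
    (hP : IsPGroup 2 P) (hle : H ≤ P) : P ≤ Subgroup.normalizer (H : Set G) := by
  haveI : Fact (Nat.Prime 2) := ⟨Nat.prime_two⟩
  haveI := hP.isNilpotent
  by_contra hne
  set Q := (Subgroup.normalizer (H : Set G)).subgroupOf P with hQ
  have hQlt : Q < ⊤ := lt_of_le_of_ne le_top fun h => hne fun x hx => by
    have h2 : (⟨x, hx⟩ : P) ∈ Q := h ▸ Subgroup.mem_top _
    exact h2
  obtain ⟨x, hx, hxQ⟩ := SetLike.exists_of_lt (Group.normalizerCondition_of_isNilpotent Q hQlt)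
  refine hxQ (cj_eq_self_iff.1 (cj_eq_of_le_normalizer hH hc fun y hy => ?_))
  have h1 := mem_cj.1 hy
  have hyQ : (⟨_, hle h1⟩ : P) ∈ Q := Subgroup.le_normalizer h1
  have h2 := (Subgroup.mem_normalizer_iff.1 hx _).1 hyQ
  have h3 : (x : G) * ((x : G)⁻¹ * y * (x : G)) * (x : G)⁻¹ ∈ Subgroup.normalizer (H : Set G) := h2
  simpa [mul_assoc] using h3

/-- A `2`-subgroup of a subgroup containing `H` can be moved in it into the normaliser of `H`. -/
theorem exists_cj_le_normalizer [Finite G] {H S T : Subgroup G} (hH : IsPGroup 2 H) (hc : Cond H)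
    (hHS : H ≤ S) (hT : IsPGroup 2 T) (hTS : T ≤ S) :
    ∃ c ∈ S, cj c T ≤ Subgroup.normalizer (H : Set G) := by
  haveI : Fact (Nat.Prime 2) := ⟨Nat.prime_two⟩
  obtain ⟨R, hR⟩ := (isPGroup_subgroupOf hH hHS).exists_le_sylow
  obtain ⟨c, hc1, hc2⟩ := H68.exists_cj_le_of_sylow R hT hTS
  exact ⟨c, hc1, hc2.trans (le_normalizer_of_le hH hc (R.2.map S.subtype)
    fun x hx => ⟨⟨x, hHS hx⟩, hR (show (⟨x, hHS hx⟩ : S) ∈ _ from hx), rfl⟩)⟩

/-- `(Fu)`: fusion in `H` is controlled by the normaliser. -/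
theorem exists_normalizer_conj [Finite G] {H : Subgroup G} (hH : IsPGroup 2 H)
    (hab : ∀ a ∈ H, ∀ b ∈ H, a * b = b * a) (hc : Cond H) {t g : G} (ht : t ∈ H)
    (hg : g * t * g⁻¹ ∈ H) :
    ∃ n ∈ Subgroup.normalizer (H : Set G), n * t * n⁻¹ = g * t * g⁻¹ := by
  obtain ⟨K, hK1, hK2, hK3, hK4⟩ := hc g
  obtain ⟨k, hk, he⟩ := exists_conj_of_le_sup (H' := cj g H) hH (hH.map _) hK2 (le_sup_left.trans hK3) hK4
    (card_cj g H)
  have hcent : H ⊔ cj g H ≤ Subgroup.centralizer {g * t * g⁻¹} := by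
    refine sup_le (fun x hx => Subgroup.mem_centralizer_singleton_iff.2 (hab x hx _ hg))
      fun x hx => Subgroup.mem_centralizer_singleton_iff.2 ?_
    obtain ⟨y, hy, rfl⟩ := hx
    simp only [MulEquiv.coe_toMonoidHom, MulAut.conj_apply]
    calc g * y * g⁻¹ * (g * t * g⁻¹) = g * (y * t) * g⁻¹ := by group
      _ = g * (t * y) * g⁻¹ := by rw [hab y hy t ht]
      _ = _ := by group
  have hkc : k * (g * t * g⁻¹) = g * t * g⁻¹ * k :=
    Subgroup.mem_centralizer_singleton_iff.1 (hcent (hK1 hk))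
  refine ⟨k⁻¹ * g, cj_eq_self_iff.1 ?_, ?_⟩
  · rw [← cj_cj, ← he, cj_cj, inv_mul_cancel, cj_one]
  · calc k⁻¹ * g * t * (k⁻¹ * g)⁻¹ = k⁻¹ * (g * t * g⁻¹ * k) := by group
      _ = g * t * g⁻¹ := by rw [← hkc, inv_mul_cancel_left]

end H68.EC
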