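import Cfsg.Agent.H12.Orth
import Cfsg.Agent.H70.Conj
import Mathlib.LinearAlgebra.FiniteDimensional.Lemmas

/-!
Dimensions of fixed spaces of subgroups in an irreducible representation.
-/

set_option autoImplicit false
set_option linter.style.haveILetI false
set_option linter.unusedSectionVars false

open Cfsg Module

namespace H68.EC

open H70

universe u

variable {G : Type u} [Group G] [Fintype G]

/-- The sum of a character over a subgroup is a multiple of its order. -/
theorem exists_sum_eq_card_mul {χ : G → ℂ} (hχ : IsCharacter G χ) (W : Subgroup G) [Fintype W] :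
    ∃ m : ℕ, ∑ v : W, χ v = (Nat.card W : ℂ) * m := by
  obtain ⟨n, ρ, rfl⟩ := hχ
  haveI : Invertible (Nat.card W : ℂ) := invertibleOfNonzero H12.card_ne_zero'
  refine ⟨finrank ℂ (Representation.invariants (ρ.comp W.subtype)), ?_⟩
  rw [← Representation.card_inv_mul_sum_char_eq_finrank, mul_inv_cancel_left₀ H12.card_ne_zero']
  rfl

/-- For three conjugates of `V` generating `G`. -/
theorem exists_fixed_dim (χ : IrrCharacter G) (hχ : χ ≠ H12.oneIrr G) (V : Subgroup G) [Fintype V]
    {g h : G} (htop : V ⊔ cj g V ⊔ cj h V = ⊤) :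
    ∃ m : ℕ, ∑ v : V, (χ : G → ℂ) v = (Nat.card V : ℂ) * m ∧
      3 * m ≤ 2 * H12.degree (χ : G → ℂ) := by
  have hsum : ∑ x : G, (χ : G → ℂ) x = 0 := by
    have h1 := H12.classInner_irr_ne hχ
    simpa [H12.classInner_def, H12.oneIrr_apply, H12.card_ne_zero'] using h1
  obtain ⟨n, ρ, hρ, he⟩ := χ.2
  rw [← he] at hsum ⊢
  rw [H12.degree_character, finrank_fin_fun]
  set W : Subgroup G → Submodule ℂ (Fin n → ℂ) := fun A => Representation.invariants (ρ.comp A.subtype)
    with hW
  have hinv : Representation.invariants ρ = ⊥ := by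
    haveI : Invertible (Nat.card G : ℂ) := invertibleOfNonzero H12.card_ne_zero'
    have h1 := Representation.card_inv_mul_sum_char_eq_finrank ρ
    rw [hsum, mul_zero] at h1
    exact Submodule.finrank_eq_zero.1 (by exact_mod_cast h1.symm)
  have hcj : ∀ c : G, finrank ℂ (W (cj c V)) = finrank ℂ (W V) := by
    intro c
    let e : (Fin n → ℂ) ≃ₗ[ℂ] (Fin n → ℂ) :=
      { ρ c with
        invFun := ρ c⁻¹
        left_inv := fun x => by
          show ρ c⁻¹ (ρ c x) = x
          rw [← Module.End.mul_apply, ← map_mul, inv_mul_cancel, map_one, Module.End.one_apply]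
        right_inv := fun x => by
          show ρ c (ρ c⁻¹ x) = x
          rw [← Module.End.mul_apply, ← map_mul, mul_inv_cancel, map_one, Module.End.one_apply] }
    have hmap : W (cj c V) = (W V).map (e : (Fin n → ℂ) →ₗ[ℂ] (Fin n → ℂ)) := by
      ext x
      simp only [hW, Submodule.mem_map, Representation.mem_invariants]
      constructor
      · intro hx
        refine ⟨ρ c⁻¹ x, fun v => ?_, e.apply_symm_apply x⟩
        have h2 := hx ⟨c * v * c⁻¹, v, v.2, rfl⟩
        show ρ (v : G) (ρ c⁻¹ x) = ρ c⁻¹ x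
        have h2' : ρ (c * v * c⁻¹) x = x := h2
        conv_rhs => rw [← h2']
        rw [← Module.End.mul_apply, ← map_mul, ← Module.End.mul_apply, ← map_mul]
        congr 2
        group
      · rintro ⟨y, hy, rfl⟩ ⟨w, v, hv, rfl⟩
        show ρ (c * v * c⁻¹) (ρ c y) = ρ c y
        have h2 : ρ v y = y := hy ⟨v, hv⟩
        conv_rhs => rw [← h2]
        rw [← Module.End.mul_apply, ← map_mul, ← Module.End.mul_apply, ← map_mul]
        congr 2
        group
    rw [hmap, LinearEquiv.finrank_map_eq]
  have h3 : W V ⊓ W (cj g V) ⊓ W (cj h V) = ⊥ := by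
    rw [← le_bot_iff, ← hinv]
    intro x hx
    let T : Subgroup G :=
      { carrier := {y | ρ y x = x}
        one_mem' := by simp
        mul_mem' := fun {a b} (ha : ρ a x = x) (hb : ρ b x = x) => show ρ (a * b) x = x by
          rw [map_mul, Module.End.mul_apply, hb, ha]
        inv_mem' := fun {a} (ha : ρ a x = x) => show ρ a⁻¹ x = x by
          conv_lhs => rw [← ha]
          rw [← Module.End.mul_apply, ← map_mul, inv_mul_cancel, map_one, Module.End.one_apply] }
    have hT : V ⊔ cj g V ⊔ cj h V ≤ T :=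
      sup_le (sup_le (fun y hy => hx.1.1 ⟨y, hy⟩) fun y hy => hx.1.2 ⟨y, hy⟩)
        fun y hy => hx.2 ⟨y, hy⟩
    rw [htop] at hT
    exact fun y => hT (Subgroup.mem_top y)
  refine ⟨finrank ℂ (W V), ?_, ?_⟩
  · haveI : Invertible (Nat.card V : ℂ) := invertibleOfNonzero H12.card_ne_zero'
    rw [hW, ← Representation.card_inv_mul_sum_char_eq_finrank,
      mul_inv_cancel_left₀ H12.card_ne_zero']
    rfl
  · have e1 := Submodule.finrank_sup_add_finrank_inf_eq (W V) (W (cj g V))
    have e2 := Submodule.finrank_sup_add_finrank_inf_eq (W V ⊓ W (cj g V)) (W (cj h V))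
    rw [h3, finrank_bot] at e2
    have l1 := Submodule.finrank_le (W V ⊔ W (cj g V))
    have l2 := Submodule.finrank_le (W V ⊓ W (cj g V) ⊔ W (cj h V))
    rw [finrank_fin_fun] at l1 l2
    rw [hcj] at e1 e2
    omega

end H68.EC
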