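import Cfsg.Agent.H68.ExtClosed.Local
import Cfsg.Agent.H68.ExtClosed.FixedSpace
import Cfsg.Agent.H11.ColumnsNormalizer
import Cfsg.Agent.H85.ZStarBlocks
import Cfsg.Agent.H22.SectionOrth

/-!
Columns of the principal block at the elements of `V` and at products of two conjugates.
-/

set_option autoImplicit false
set_option linter.style.haveILetI false
set_option linter.unusedSectionVars false

open Cfsg
open scoped ComplexConjugate

namespace H68.EC

open H70

universe u

variable {G : Type u} [Group G] [Fintype G] {M : Ideal AlgInt} [M.IsPrime]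

/-- The sum of the squares of the degrees in the principal block of a centraliser. -/
noncomputable def cz (M : Ideal AlgInt) (z : G) : ℕ :=
  ∑ᶠ ψ ∈ principalBlock M ↥(Subgroup.centralizer ({z} : Set G)),
    charDegree (ψ : ↥(Subgroup.centralizer ({z} : Set G)) → ℂ) ^ 2

theorem card_le_sum_sq {K : Type u} [Group K] [Fintype K] (hM : IsPModular 2 M) (W : Subgroup K)
    (hW : IsPGroup 2 W) :
    Nat.card W ≤ ∑ᶠ ψ ∈ principalBlock M K, charDegree (ψ : K → ℂ) ^ 2 := by
  classical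
  haveI : Fact (Nat.Prime 2) := ⟨Nat.prime_two⟩
  haveI := Fintype.ofFinite W
  rw [H22.finsum_mem_block]
  set B := H22.blockFinset (principalBlock M K) with hB
  choose m hm using fun ψ : IrrCharacter K => exists_sum_eq_card_mul (H12.isCharacter_irr ψ) W
  have hdeg : ∀ ψ : IrrCharacter K, (ψ : K → ℂ) 1 = (charDegree (ψ : K → ℂ) : ℂ) :=
    fun ψ => H12.irr_apply_one ψ
  have key : ((∑ ψ ∈ B, charDegree (ψ : K → ℂ) ^ 2 : ℕ) : ℂ) =
      ((Nat.card W * ∑ ψ ∈ B, charDegree (ψ : K → ℂ) * m ψ : ℕ) : ℂ) := by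
    have e : ∑ v : W, ∑ ψ ∈ B, (ψ : K → ℂ) 1 * (ψ : K → ℂ) v =
        ∑ ψ ∈ B, (ψ : K → ℂ) 1 * (ψ : K → ℂ) 1 := by
      refine (Finset.sum_eq_single (1 : W) (fun v _ hv => ?_) (by simp)).trans (by simp)
      have hv2 : 2 ∣ orderOf ((v : K)⁻¹) := by
        rw [orderOf_inv]
        obtain ⟨k, hk⟩ := IsPGroup.iff_orderOf.mp hW v
        rw [Subgroup.orderOf_coe, hk]
        refine dvd_pow_self 2 fun h => hv (orderOf_eq_one_iff.1 ?_)
        rw [hk, h, pow_zero]
      have h0 := H20.weak_orthogonality hM (H20.isPBlock_principalBlock (M := M) (G := K))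
        (x := 1) (y := (v : K)⁻¹) (by rw [orderOf_one]; norm_num) hv2
      rw [H22.finsum_mem_block] at h0
      refine Eq.trans (Finset.sum_congr rfl fun ψ _ => ?_) h0
      rw [H12.irr_inv, Complex.conj_conj]
    rw [Finset.sum_comm] at e
    simp only [← Finset.mul_sum, hm, hdeg] at e
    push_cast [Finset.mul_sum]
    rw [Finset.sum_congr rfl fun (ψ : IrrCharacter K) _ => pow_two (charDegree (ψ : K → ℂ) : ℂ), ← e]
    exact Finset.sum_congr rfl fun ψ _ => by ring
  rw [Nat.cast_inj.1 key]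
  refine Nat.le_mul_of_pos_right _ (Nat.pos_of_ne_zero fun h => ?_)
  have hone : H12.oneIrr K ∈ B := H22.mem_blockFinset.2 (H20.mem_blockOf_self (H12.oneIrr K))
  have h2 : (∑ ψ ∈ B, charDegree (ψ : K → ℂ) ^ 2) = 0 := by
    rw [Nat.cast_inj.1 key, h, mul_zero]
  have h3 := (Finset.sum_eq_zero_iff.1 h2) _ hone
  exact (H12.irr_degree_pos (H12.oneIrr K)).ne' (eq_zero_of_pow_eq_zero h3)

/-- The real value of a character at an element. -/
noncomputable def rv (χ : IrrCharacter G) (v : G) : ℝ := ((χ : G → ℂ) v).re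

theorem irr_eq_rv (χ : IrrCharacter G) {v : G} (hv : v * v = 1) :
    (χ : G → ℂ) v = (rv χ v : ℂ) := by
  have h : conj ((χ : G → ℂ) v) = (χ : G → ℂ) v := by
    rw [← H12.irr_inv, inv_eq_of_mul_eq_one_left hv]
  exact (Complex.conj_eq_iff_re.1 h).symm

theorem column_eq (hM : IsPModular 2 M) {u v : G} (hu : orderOf u = 2) (hv : orderOf v = 2)
    [Decidable (IsConj u v)] :
    ∑ χ ∈ H22.blockFinset (principalBlock M G), rv χ u * rv χ v =
      if IsConj u v then (cz M u : ℝ) else 0 := by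
  have h := H11.column_pair hM (u := u) (v := v) ⟨1, by rw [hu, pow_one]⟩ ⟨1, by rw [hv, pow_one]⟩
  rw [H22.finsum_mem_block] at h
  have e : ((∑ χ ∈ H22.blockFinset (principalBlock M G), rv χ u * rv χ v : ℝ) : ℂ) =
      ((if IsConj u v then (cz M u : ℝ) else 0 : ℝ) : ℂ) := by
    rw [apply_ite (fun r : ℝ => (r : ℂ)), Complex.ofReal_natCast, Complex.ofReal_zero, cz, ← h]
    push_cast
    refine Finset.sum_congr rfl fun χ _ => ?_
    rw [irr_eq_rv χ (H66.mul_self_of_orderOf_two hu), irr_eq_rv χ (H66.mul_self_of_orderOf_two hv),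
      Complex.conj_ofReal, mul_comm]
  exact Complex.ofReal_injective e

theorem column_one (hM : IsPModular 2 M) {v : G} (hv : orderOf v = 2) :
    ∑ χ ∈ H22.blockFinset (principalBlock M G), rv χ 1 * rv χ v = 0 := by
  have h := H20.weak_orthogonality hM (H20.isPBlock_principalBlock (M := M) (G := G))
    (x := 1) (y := v) (by rw [orderOf_one]; norm_num) (by rw [hv])
  rw [H22.finsum_mem_block] at h
  refine Complex.ofReal_injective (Eq.trans ?_ (h.trans Complex.ofReal_zero.symm))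
  push_cast
  refine Finset.sum_congr rfl fun χ _ => ?_
  rw [irr_eq_rv χ (one_mul 1), irr_eq_rv χ (H66.mul_self_of_orderOf_two hv), Complex.conj_ofReal]

variable {V : Subgroup G} (S : Setup V)
include S

theorem Setup.card_le_cz (hM : IsPModular 2 M) {z : G} (hz : z ∈ V) :
    Nat.card V ≤ cz M z := by
  haveI : Fintype ↥(Subgroup.centralizer ({z} : Set G)) := Fintype.ofFinite _
  have h := card_le_sum_sq hM (V.subgroupOf (Subgroup.centralizer {z}))
    (isPGroup_subgroupOf S.isP (S.le_cent hz))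
  rwa [Nat.card_congr (Subgroup.subgroupOfEquivOfLe (S.le_cent hz)).toEquiv] at h

/-- A conjugate of an element of `V` in `C(z)` lies in `θ_z V`. -/
theorem Setup.mem_theta_sup {z w : G} (hz : z ∈ V) (hz1 : z ≠ 1)
    (hw : w ∈ Subgroup.centralizer ({z} : Set G)) {v : G} (hv : v ∈ V) (hconj : IsConj v w) :
    w ∈ theta z ⊔ V := by
  obtain ⟨g, rfl⟩ := isConj_iff.1 hconj
  have hw2 : IsPGroup 2 (Subgroup.zpowers (g * v * g⁻¹)) := by
    refine isPGroup_of_sq fun a ha => ?_
    obtain ⟨k, rfl⟩ := Subgroup.mem_zpowers_iff.1 ha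
    rw [← (Commute.refl (g * v * g⁻¹)).mul_zpow, conj_mul, S.sq v hv, mul_one, mul_inv_cancel,
      one_zpow]
  obtain ⟨c, hc, hcw⟩ := exists_cj_le_normalizer S.isP S.cond (S.le_cent hz) hw2
    (Subgroup.zpowers_le.2 hw)
  have h1 : c * g * v * (c * g)⁻¹ ∈ V := by
    refine conj_mem_of_normalizer S.isP S.cond hv (hcw (mem_cj.2 ?_))
    rw [show c⁻¹ * (c * g * v * (c * g)⁻¹) * c = g * v * g⁻¹ by group]
    exact Subgroup.mem_zpowers _
  obtain ⟨m, hm, hn⟩ := S.decomp hz hz1 hc
  set n := m⁻¹ * c with hndef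
  have hnC : n ∈ Subgroup.centralizer ({z} : Set G) :=
    (Subgroup.centralizer {z}).mul_mem ((Subgroup.centralizer {z}).inv_mem (coreIn_le _ hm)) hc
  have hns : n⁻¹ ∈ Subgroup.normalizer (↑(theta z ⊔ V) : Set G) :=
    Subgroup.normalizer_inf_normalizer_le_normalizer_sup _ _
      ⟨(Subgroup.normalizer _).inv_mem (le_normalizer_coreIn _ hnC),
        (Subgroup.normalizer _).inv_mem hn⟩
  have h2 : m⁻¹ * (c * g * v * (c * g)⁻¹) * m ∈ theta z ⊔ V :=
    mul_mem (mul_mem (inv_mem (Subgroup.mem_sup_left hm)) (Subgroup.mem_sup_right h1))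
      (Subgroup.mem_sup_left hm)
  have h3 := (Subgroup.mem_normalizer_iff.1 hns _).1 h2
  convert h3 using 1
  rw [hndef]
  group

/-- The column product of `u g v g⁻¹` with `z`. -/
theorem Setup.eval (hM : IsPModular 2 M) {u v z : G} (hu : u ∈ V) (hv : v ∈ V) (hz : z ∈ V)
    (hz1 : z ≠ 1) (g : G) [Decidable (IsConj z (H20.pPart 2 (u * (g * v * g⁻¹))))] :
    ∑ χ ∈ H22.blockFinset (principalBlock M G),
        (χ : G → ℂ) (u * (g * v * g⁻¹)) * (χ : G → ℂ) z =
      if IsConj z (H20.pPart 2 (u * (g * v * g⁻¹))) then (cz M z : ℂ) else 0 := by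
  classical
  haveI : Fact (Nat.Prime 2) := ⟨Nat.prime_two⟩
  have hz2 : orderOf z = 2 := H66.orderOf_two_of_sq hz1 (S.sq z hz)
  have hzp : H20.pPart 2 z = z := H20.pPart_eq_self ⟨1, by rw [hz2, pow_one]⟩
  set y := u * (g * v * g⁻¹) with hy
  by_cases h : IsConj z (H20.pPart 2 y)
  · rw [if_pos h]
    obtain ⟨c, hc⟩ := isConj_iff.1 h
    set y' := c⁻¹ * y * c with hy'
    set u' := c⁻¹ * u * c with hu'
    set s' := c⁻¹ * (g * v * g⁻¹) * c with hs'
    have huu : u * u = 1 := S.sq u hu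
    have hss : g * v * g⁻¹ * (g * v * g⁻¹) = 1 := by
      rw [conj_mul, S.sq v hv, mul_one, mul_inv_cancel]
    have hinv : u * y * u⁻¹ = y⁻¹ := H66.inverts_mul huu hss
    have hp1 : H20.pPart 2 y' = z := by
      rw [hy', show c⁻¹ * y * c = c⁻¹ * y * c⁻¹⁻¹ by rw [inv_inv], H20.pPart_conj, ← hc]
      group
    have hup : u * H20.pPart 2 y * u⁻¹ = H20.pPart 2 y := by
      rw [← H20.pPart_conj, hinv, H20.pPart_inv]
      refine inv_eq_of_mul_eq_one_left ?_
      rw [← hc, conj_mul, S.sq z hz, mul_one, mul_inv_cancel]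
    have hu'C : u' ∈ Subgroup.centralizer ({z} : Set G) := by
      rw [Subgroup.mem_centralizer_singleton_iff, hu']
      calc c⁻¹ * u * c * z = c⁻¹ * (u * (c * z * c⁻¹) * u⁻¹) * u * c := by group
        _ = z * (c⁻¹ * u * c) := by rw [hc, hup, ← hc]; group
    have hy'C : y' ∈ Subgroup.centralizer ({z} : Set G) := by
      rw [Subgroup.mem_centralizer_singleton_iff, ← hp1]
      have hcom := (H20.commute_pPart_qPart (p := 2) y')
      exact ((Commute.refl y').pow_right (H20.pExp 2 (orderOf y'))).eq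
    have hys : y' = u' * s' := by rw [hy', hu', hs', hy]; group
    have hs'C : s' ∈ Subgroup.centralizer ({z} : Set G) := by
      rw [show s' = u'⁻¹ * y' by rw [hys, inv_mul_cancel_left]]
      exact mul_mem (inv_mem hu'C) hy'C
    have hu'm := S.mem_theta_sup hz hz1 hu'C hu (isConj_iff.2 ⟨c⁻¹, by rw [hu', inv_inv]⟩)
    have hs'm := S.mem_theta_sup hz hz1 hs'C hv (isConj_iff.2 ⟨c⁻¹ * g, by rw [hs']; group⟩)
    have hq : H20.qPart 2 y' ∈ theta z ⊔ V := by
      refine (Subgroup.zpowers_le.2 ?_) (H20.mem_zpowers_qPart y')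
      rw [hys]
      exact mul_mem hu'm hs'm
    have hVn : V ≤ Subgroup.normalizer (theta z : Set G) :=
      (S.le_cent hz).trans (le_normalizer_coreIn _)
    obtain ⟨m, hm, w, hw, e⟩ := exists_mul_of_mem_sup hVn hq
    have hqodd : Odd (orderOf (H20.qPart 2 y')) :=
      Nat.not_even_iff_odd.1 fun he => H20.not_dvd_orderOf_qPart y' he.two_dvd
    have hw1 : w = 1 := S.eq_one_of_mem_theta hw
      (mem_of_odd_mul (hVn hw) (S.sq w hw) hm (e ▸ hqodd))
    have hqθ : H20.qPart 2 y' ∈ theta z := by rw [e, hw1, mul_one]; exact hm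
    have hval : ∀ χ ∈ H22.blockFinset (principalBlock M G), (χ : G → ℂ) y = (χ : G → ℂ) z := by
      intro χ hχ
      have h1 := H85.irr_apply_mul_pPrimeCore hM ⟨1, by rw [hz2, pow_one]⟩
        (show H20.qPart 2 y' ∈ Cfsg.centralizerPPrimeCore 2 z from hqθ) (H22.mem_blockFinset.1 hχ)
      rw [← H12.irr_isClassFunction χ y c⁻¹, inv_inv, ← hy', ← h1]
      rw [← hp1, H20.pPart_mul_qPart]
    rw [Finset.sum_congr rfl fun χ hχ => by rw [hval χ hχ]]
    have h2 := column_eq (M := M) hM hz2 hz2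
    rw [if_pos (IsConj.refl z)] at h2
    rw [← Complex.ofReal_natCast, ← h2]
    push_cast
    exact Finset.sum_congr rfl fun χ _ => by rw [irr_eq_rv χ (S.sq z hz)]
  · rw [if_neg h]
    have h1 := H20.block_orthogonality hM (g := y) (h := z)
      (by rw [hzp]; exact fun h' => h h'.symm) (H20.isPBlock_principalBlock (M := M))
    rwa [H22.finsum_mem_block, S.inv_eq hz] at h1

end H68.EC
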