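import Cfsg.Agent.H68.ExtClosed.Local
import Cfsg.Agent.H20.PPart

/-!
Counting the elements `g` for which the `2`-part of `u g v g⁻¹` is conjugate to `z`.
-/

set_option autoImplicit false
set_option linter.style.haveILetI false
set_option linter.unusedSectionVars false

namespace H68.EC

open H70

universe u

variable {G : Type u} [Group G] [Finite G] {V : Subgroup G}

/-- The size of the class of `t` within `V`. -/
noncomputable def orb (V : Subgroup G) (t : G) : ℕ := Nat.card {v : G // v ∈ V ∧ IsConj t v}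

/-- The number of ways to write `z` as a product in `V` of conjugates of `u` and of `v`. -/
noncomputable def pairs (V : Subgroup G) (u v z : G) : ℕ :=
  Nat.card {a : G // a ∈ V ∧ IsConj u a ∧ IsConj v (a * z)}

/-- The number of `g` with the `2`-part of `u g v g⁻¹` conjugate to `z`. -/
noncomputable def good (u v z : G) : ℕ :=
  Nat.card {g : G // IsConj z (H20.pPart 2 (u * (g * v * g⁻¹)))}

abbrev Prods (u v z : G) : Type u :=
  {p : G × G // IsConj u p.1 ∧ IsConj v p.2 ∧ IsConj z (H20.pPart 2 (p.1 * p.2))}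

theorem isConj_self_conj (x c : G) : IsConj x (c * x * c⁻¹) := isConj_iff.2 ⟨c, rfl⟩

theorem card_mul_good (u v z : G) :
    Nat.card G * good u v z = Nat.card (Subgroup.centralizer ({u} : Set G)) *
      Nat.card (Subgroup.centralizer ({v} : Set G)) * Nat.card (Prods u v z) := by
  classical
  haveI : Fact (Nat.Prime 2) := ⟨Nat.prime_two⟩
  have h1 : ∀ q : Prods u v z, ∃ a b : G, a * u * a⁻¹ = q.1.1 ∧ b * v * b⁻¹ = q.1.2 := fun q => by
    obtain ⟨a, ha⟩ := isConj_iff.1 q.2.1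
    obtain ⟨b, hb⟩ := isConj_iff.1 q.2.2.1
    exact ⟨a, b, ha, hb⟩
  choose a b ha hb using h1
  have hprod : ∀ c g : G, c * u * c⁻¹ * (c * g * v * (c * g)⁻¹) = c * (u * (g * v * g⁻¹)) * c⁻¹ :=
    fun c g => by group
  let f : G × {g : G // IsConj z (H20.pPart 2 (u * (g * v * g⁻¹)))} → Prods u v z := fun x =>
    ⟨(x.1 * u * x.1⁻¹, x.1 * x.2.1 * v * (x.1 * x.2.1)⁻¹), isConj_self_conj _ _,
      isConj_self_conj _ _, by
        rw [hprod, H20.pPart_conj]
        exact x.2.2.trans (isConj_self_conj _ _)⟩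
  have memc : ∀ {t : G} (c c' : G), c * t * c⁻¹ = c' * t * c'⁻¹ →
      c'⁻¹ * c ∈ Subgroup.centralizer ({t} : Set G) := fun {t} c c' h => by
    rw [Subgroup.mem_centralizer_singleton_iff]
    calc c'⁻¹ * c * t = c'⁻¹ * (c * t * c⁻¹) * c := by group
      _ = t * (c'⁻¹ * c) := by rw [h]; group
  let F : G × {g : G // IsConj z (H20.pPart 2 (u * (g * v * g⁻¹)))} →
      ↥(Subgroup.centralizer ({u} : Set G)) × ↥(Subgroup.centralizer ({v} : Set G)) × Prods u v z :=
    fun x => (⟨(a (f x))⁻¹ * x.1, memc _ _ (ha (f x)).symm⟩,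
      ⟨(b (f x))⁻¹ * (x.1 * x.2.1), memc _ _ (hb (f x)).symm⟩, f x)
  have hF : Function.Bijective F := by
    constructor
    · intro x y h
      have h1 : (a (f x))⁻¹ * x.1 = (a (f y))⁻¹ * y.1 := congrArg Subtype.val (congrArg Prod.fst h)
      have h2 : (b (f x))⁻¹ * (x.1 * x.2.1) = (b (f y))⁻¹ * (y.1 * y.2.1) :=
        congrArg Subtype.val (congrArg (fun z => z.2.1) h)
      have h3 : f x = f y := congrArg (fun z => z.2.2) h
      rw [h3] at h1 h2
      have e1 := mul_left_cancel h1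
      have e2 := mul_left_cancel h2
      rw [e1] at e2
      exact Prod.ext e1 (Subtype.ext (mul_left_cancel e2))
    · rintro ⟨⟨c, hc⟩, ⟨d, hd⟩, q⟩
      have hcu : c * u = u * c := Subgroup.mem_centralizer_singleton_iff.1 hc
      have hdv : d * v = v * d := Subgroup.mem_centralizer_singleton_iff.1 hd
      have e1 : a q * c * u * (a q * c)⁻¹ = q.1.1 := by
        rw [← ha q, mul_inv_rev, mul_assoc (a q) c u, hcu]
        group
      have e2 : b q * d * v * (b q * d)⁻¹ = q.1.2 := by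
        rw [← hb q, mul_inv_rev, mul_assoc (b q) d v, hdv]
        group
      have hg : IsConj z (H20.pPart 2
          (u * ((a q * c)⁻¹ * (b q * d) * v * ((a q * c)⁻¹ * (b q * d))⁻¹))) := by
        refine q.2.2.2.trans (IsConj.symm ?_)
        refine isConj_iff.2 ⟨a q * c, ?_⟩
        rw [← H20.pPart_conj, ← hprod, mul_inv_cancel_left, e1, e2]
      refine ⟨(a q * c, ⟨_, hg⟩), ?_⟩
      have hfq : f (a q * c, ⟨_, hg⟩) = q := by
        refine Subtype.ext (Prod.ext e1 ?_)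
        show a q * c * ((a q * c)⁻¹ * (b q * d)) * v * _ = _
        rw [mul_inv_cancel_left, e2]
      simp only [F, hfq]
      refine Prod.ext (Subtype.ext ?_) (Prod.ext (Subtype.ext ?_) rfl)
      · show (a q)⁻¹ * (a q * c) = c
        group
      · show (b q)⁻¹ * (a q * c * ((a q * c)⁻¹ * (b q * d))) = d
        group
  have h := Nat.card_eq_of_bijective F hF
  simp only [Nat.card_prod] at h
  rw [good, h, mul_assoc]

/-- The `2`-part of a product of a conjugate of `a` and one of `b`, by elements of `θ_ab`. -/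
theorem Setup.pPart_prod (S : Setup V) {a b x y : G} (ha : a ∈ V) (hb : b ∈ V) (hab : a ≠ b)
    (hx : x ∈ theta (a * b)) (hy : y ∈ theta (a * b)) :
    H20.pPart 2 (x * a * x⁻¹ * (y * b * y⁻¹)) = a * b := by
  haveI : Fact (Nat.Prime 2) := ⟨Nat.prime_two⟩
  have hz : a * b ∈ V := mul_mem ha hb
  have hn : ∀ v ∈ V, ∀ o ∈ theta (a * b), v * o * v⁻¹ ∈ theta (a * b) := fun v hv o ho =>
    (Subgroup.mem_normalizer_iff.1 (le_normalizer_coreIn _ (S.le_cent hz hv)) o).1 ho
  set o := x * (a * x⁻¹ * a⁻¹) * (a * (y * (b * y⁻¹ * b⁻¹)) * a⁻¹) with ho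
  have homem : o ∈ theta (a * b) :=
    mul_mem (mul_mem hx (hn a ha _ (inv_mem hx))) (hn a ha _ (mul_mem hy (hn b hb _ (inv_mem hy))))
  have e : x * a * x⁻¹ * (y * b * y⁻¹) = o * (a * b) := by rw [ho]; group
  have hc : o * (a * b) = a * b * o :=
    Subgroup.mem_centralizer_singleton_iff.1 (coreIn_le _ homem)
  rw [e, hc]
  refine ((H20.isPPart_unique' rfl hc.symm ⟨1, ?_⟩ ?_).1).symm
  · rw [H66.orderOf_two_of_sq (S.mul_ne_one hb hab) (S.sq _ hz), pow_one]
  · exact (odd_orderOf_of_mem (odd_coreIn _) homem).not_two_dvd_nat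

theorem Setup.card_pairs_le (S : Setup V) {u v z : G} (hu : u ∈ V) (hv : v ∈ V)
    (hz : z ∈ V) (hu1 : u ≠ 1) (hv1 : v ≠ 1) (hz1 : z ≠ 1) :
    Nat.card G * pairs V u v z * Nat.card (theta z) *
        ((Subgroup.normalizer (V : Set G)).index * Nat.card (dCore V)) ≤
      Nat.card (Prods u v z) * Nat.card (Subgroup.centralizer ({z} : Set G)) *
        (Nat.card (theta u) * Nat.card (theta v)) := by
  classical
  haveI := Fintype.ofFinite G
  set P := {a : G // a ∈ V ∧ IsConj u a ∧ IsConj v (a * z)} with hP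
  set R := Nat.card (theta u) * Nat.card (theta v) * Nat.card (theta z) with hR
  set k := (Subgroup.normalizer (V : Set G)).index * Nat.card (dCore V) with hk
  have fb : ∀ a : P, a.1 * z ∈ V ∧ a.1 ≠ a.1 * z ∧ a.1 * (a.1 * z) = z ∧ a.1 ≠ 1 ∧ a.1 * z ≠ 1 := by
    intro a
    refine ⟨mul_mem a.2.1 hz, fun h => hz1 (mul_eq_left.1 h.symm),
      by rw [← mul_assoc, S.sq _ a.2.1, one_mul], fun h => hu1 ?_, fun h => hv1 ?_⟩
    · have h1 := a.2.2.1
      rw [h] at h1
      exact isConj_one_left.1 h1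
    · have h1 := a.2.2.2
      rw [h] at h1
      exact isConj_one_left.1 h1
  let f : G × P × ↥(theta z) × ↥(theta z) → Prods u v z := fun d =>
    ⟨(d.1 * (d.2.2.1.1 * d.2.1.1 * (d.2.2.1.1)⁻¹) * d.1⁻¹,
      d.1 * (d.2.2.2.1 * (d.2.1.1 * z) * (d.2.2.2.1)⁻¹) * d.1⁻¹),
      d.2.1.2.2.1.trans ((isConj_self_conj _ _).trans (isConj_self_conj _ _)),
      d.2.1.2.2.2.trans ((isConj_self_conj _ _).trans (isConj_self_conj _ _)), by
      haveI : Fact (Nat.Prime 2) := ⟨Nat.prime_two⟩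
      obtain ⟨h1, h2, h3, -, -⟩ := fb d.2.1
      have hx : d.2.2.1.1 ∈ theta (d.2.1.1 * (d.2.1.1 * z)) := by rw [h3]; exact d.2.2.1.2
      have hy : d.2.2.2.1 ∈ theta (d.2.1.1 * (d.2.1.1 * z)) := by rw [h3]; exact d.2.2.2.2
      have h4 := S.pPart_prod d.2.1.2.1 h1 h2 hx hy
      rw [show ∀ p q : G, d.1 * p * d.1⁻¹ * (d.1 * q * d.1⁻¹) = d.1 * (p * q) * d.1⁻¹ from
        fun p q => by group, H20.pPart_conj, h4, h3]
      exact isConj_self_conj _ _⟩
  have hprod : ∀ d, H20.pPart 2 ((f d).1.1 * (f d).1.2) = d.1 * z * d.1⁻¹ := by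
    intro d
    haveI : Fact (Nat.Prime 2) := ⟨Nat.prime_two⟩
    obtain ⟨h1, h2, h3, -, -⟩ := fb d.2.1
    have hx : d.2.2.1.1 ∈ theta (d.2.1.1 * (d.2.1.1 * z)) := by rw [h3]; exact d.2.2.1.2
    have hy : d.2.2.2.1 ∈ theta (d.2.1.1 * (d.2.1.1 * z)) := by rw [h3]; exact d.2.2.2.2
    have h4 := S.pPart_prod d.2.1.2.1 h1 h2 hx hy
    show H20.pPart 2 (d.1 * _ * d.1⁻¹ * (d.1 * _ * d.1⁻¹)) = _
    rw [show ∀ p q : G, d.1 * p * d.1⁻¹ * (d.1 * q * d.1⁻¹) = d.1 * (p * q) * d.1⁻¹ from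
        fun p q => by group, H20.pPart_conj, h4, h3]
  -- a fixed conjugating element for each product
  have hch : ∀ q : Prods u v z, ∃ h : G, h * z * h⁻¹ = H20.pPart 2 (q.1.1 * q.1.2) := fun q =>
    isConj_iff.1 q.2.2.2
  choose h₀ hh₀ using hch
  let Ψ : G × P × ↥(theta z) × ↥(theta z) →
      Prods u v z × ↥(Subgroup.centralizer ({z} : Set G)) := fun d =>
    (f d, ⟨(h₀ (f d))⁻¹ * d.1, Subgroup.mem_centralizer_singleton_iff.2 (by
      have e := (hh₀ (f d)).trans (hprod d)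
      calc (h₀ (f d))⁻¹ * d.1 * z = (h₀ (f d))⁻¹ * (d.1 * z * d.1⁻¹) * d.1 := by group
        _ = z * ((h₀ (f d))⁻¹ * d.1) := by rw [← e]; group)⟩)
  -- the fibres
  have hfib : ∀ y, (Finset.univ.filter fun d => Ψ d = y).card * k ≤ R := by
    intro y
    rcases (Finset.univ.filter fun d => Ψ d = y).eq_empty_or_nonempty with he | ⟨d₀, hd₀⟩
    · simp [he]
    rw [Finset.mem_filter] at hd₀
    obtain ⟨g₀, a₀, x₀, y₀⟩ := d₀
    obtain ⟨hb, hab, habz, ha1, hb1⟩ := fb a₀
    set A := theta a₀.1 ⊓ theta (a₀.1 * z) with hA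
    have hA1 : theta z ⊓ Subgroup.centralizer {a₀.1} = A := by
      rw [S.theta_inf_cent hz a₀.2.1 ha1, hA, inf_comm,
        S.theta_inf a₀.2.1 hz hz1 (fun h => hb1 (by rw [h]; exact S.sq z hz))]
    have hA2 : theta z ⊓ Subgroup.centralizer {a₀.1 * z} = A := by
      rw [S.theta_inf_cent hz hb hb1, hA, inf_comm,
        S.theta_inf hb hz hz1 (fun h => ha1 (by simpa using h)), mul_assoc, S.sq z hz, mul_one,
        inf_comm]
    have hsame : ∀ d, Ψ d = y → d.1 = g₀ ∧ d.2.1 = a₀ ∧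
        x₀.1⁻¹ * d.2.2.1.1 ∈ A ∧ y₀.1⁻¹ * d.2.2.2.1 ∈ A := by
      rintro ⟨g, a, x, w⟩ hd
      have hEq := hd.trans hd₀.2.symm
      have hf : f (g, a, x, w) = f (g₀, a₀, x₀, y₀) := congrArg Prod.fst hEq
      have hc : (h₀ (f (g, a, x, w)))⁻¹ * g = (h₀ (f (g₀, a₀, x₀, y₀)))⁻¹ * g₀ :=
        congrArg Subtype.val (congrArg Prod.snd hEq)
      rw [hf] at hc
      have hg : g = g₀ := mul_left_cancel hc
      subst hg
      have h1 : x.1 * a.1 * x.1⁻¹ = x₀.1 * a₀.1 * x₀.1⁻¹ :=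
        mul_left_cancel (mul_right_cancel (congrArg (fun q => q.1.1) hf))
      have h2 : w.1 * (a.1 * z) * w.1⁻¹ = y₀.1 * (a₀.1 * z) * y₀.1⁻¹ :=
        mul_left_cancel (mul_right_cancel (congrArg (fun q => q.1.2) hf))
      have hnz : ∀ v ∈ V, ∀ o ∈ theta z, v * o * v⁻¹ ∈ theta z := fun v hv o ho =>
        (Subgroup.mem_normalizer_iff.1 (le_normalizer_coreIn _ (S.le_cent hz hv)) o).1 ho
      have haa : a.1 = a₀.1 := by
        have h3 : a.1 * a₀.1⁻¹ ∈ theta z := by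
          have h4 : a.1 * a₀.1⁻¹ =
              x.1⁻¹ * x₀.1 * (a₀.1 * (x₀.1⁻¹ * x.1) * a₀.1⁻¹) := by
            calc a.1 * a₀.1⁻¹ = x.1⁻¹ * (x.1 * a.1 * x.1⁻¹) * x.1 * a₀.1⁻¹ := by group
              _ = _ := by rw [h1]; group
          rw [h4]
          exact mul_mem (mul_mem (inv_mem x.2) x₀.2)
            (hnz _ a₀.2.1 _ (mul_mem (inv_mem x₀.2) x.2))
        exact mul_inv_eq_one.1 (S.eq_one_of_mem_theta (mul_mem a.2.1 (inv_mem a₀.2.1)) h3)
      rw [haa] at h1 h2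
      refine ⟨rfl, Subtype.ext haa, ?_, ?_⟩
      · rw [← hA1]
        refine ⟨(theta z).mul_mem ((theta z).inv_mem x₀.2) x.2, Subgroup.mem_centralizer_singleton_iff.2 ?_⟩
        calc x₀.1⁻¹ * x.1 * a₀.1 = x₀.1⁻¹ * (x.1 * a₀.1 * x.1⁻¹) * x.1 := by group
          _ = a₀.1 * (x₀.1⁻¹ * x.1) := by rw [h1]; group
      · rw [← hA2]
        refine ⟨(theta z).mul_mem ((theta z).inv_mem y₀.2) w.2, Subgroup.mem_centralizer_singleton_iff.2 ?_⟩
        calc y₀.1⁻¹ * w.1 * (a₀.1 * z) = y₀.1⁻¹ * (w.1 * (a₀.1 * z) * w.1⁻¹) * w.1 := by group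
          _ = a₀.1 * z * (y₀.1⁻¹ * w.1) := by rw [h2]; group
    have hcard : (Finset.univ.filter fun d => Ψ d = y).card ≤ Nat.card A * Nat.card A := by
      rw [← Nat.card_prod, ← Fintype.card_coe, ← Nat.card_eq_fintype_card]
      refine Nat.card_le_card_of_injective (fun d =>
        ((⟨_, (hsame d.1 (Finset.mem_filter.1 d.2).2).2.2.1⟩ : A),
          (⟨_, (hsame d.1 (Finset.mem_filter.1 d.2).2).2.2.2⟩ : A))) ?_
      intro d d' h
      have h1 : x₀.1⁻¹ * d.1.2.2.1.1 = x₀.1⁻¹ * d'.1.2.2.1.1 :=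
        congrArg Subtype.val (congrArg Prod.fst h)
      have h2 : y₀.1⁻¹ * d.1.2.2.2.1 = y₀.1⁻¹ * d'.1.2.2.2.1 :=
        congrArg Subtype.val (congrArg Prod.snd h)
      obtain ⟨p1, p2, -, -⟩ := hsame d.1 (Finset.mem_filter.1 d.2).2
      obtain ⟨q1, q2, -, -⟩ := hsame d'.1 (Finset.mem_filter.1 d'.2).2
      exact Subtype.ext (Prod.ext (p1.trans q1.symm) (Prod.ext (p2.trans q2.symm)
        (Prod.ext (Subtype.ext (mul_left_cancel h1)) (Subtype.ext (mul_left_cancel h2)))))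
    have hidx := S.index_le a₀.2.1 hb ha1 hb1 hab
    rw [habz, card_theta_of_isConj a₀.2.2.1.symm, card_theta_of_isConj a₀.2.2.2.symm] at hidx
    refine le_trans ?_ hidx
    calc (Finset.univ.filter fun d => Ψ d = y).card * k ≤ Nat.card A * Nat.card A * k :=
          Nat.mul_le_mul_right _ hcard
      _ = _ := by rw [hk, hA]; ring
  have hsum : Fintype.card (G × P × ↥(theta z) × ↥(theta z)) * k ≤
      Fintype.card (Prods u v z × ↥(Subgroup.centralizer ({z} : Set G))) * R := by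
    rw [← Finset.card_univ, Finset.card_eq_sum_card_fiberwise (f := Ψ) (t := Finset.univ)
      (fun x _ => Finset.mem_univ _), Finset.sum_mul, ← Finset.card_univ, ← smul_eq_mul,
      ← Finset.sum_const]
    exact Finset.sum_le_sum fun y _ => hfib y
  simp only [← Nat.card_eq_fintype_card, Nat.card_prod] at hsum
  refine Nat.le_of_mul_le_mul_right (c := Nat.card (theta z)) ?_ Nat.card_pos
  calc Nat.card G * pairs V u v z * Nat.card (theta z) * k * Nat.card (theta z)
      = Nat.card G * (Nat.card P * (Nat.card (theta z) * Nat.card (theta z))) * k := by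
        rw [pairs, ← hP]; ring
    _ ≤ Nat.card (Prods u v z) * Nat.card (Subgroup.centralizer ({z} : Set G)) * R := hsum
    _ = _ := by rw [hR]; ring

/-- The count. -/
theorem Setup.pairs_le_good (S : Setup V) {u v z : G} (hu : u ∈ V) (hv : v ∈ V)
    (hz : z ∈ V) (hu1 : u ≠ 1) (hv1 : v ≠ 1) (hz1 : z ≠ 1) :
    Nat.card G * orb V z * pairs V u v z ≤ good u v z * (orb V u * orb V v) := by
  have h1 := card_mul_good u v z
  have h2 := S.card_pairs_le hu hv hz hu1 hv1 hz1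
  set N := Subgroup.normalizer (V : Set G) with hN
  have ct : ∀ t ∈ V, t ≠ 1 → Nat.card (Subgroup.centralizer ({t} : Set G)) * Nat.card (dCore V) *
      orb V t = Nat.card N * Nat.card (theta t) := fun t ht ht1 => by
    rw [S.card_cent ht ht1, ← S.card_orbit ht, orb]
    ring
  have hG := Subgroup.card_mul_index N
  have eu := ct u hu hu1
  have ev := ct v hv hv1
  have ez := ct z hz hz1
  set X := N.index
  set D := Nat.card (dCore V)
  set Cu := Nat.card (Subgroup.centralizer ({u} : Set G))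
  set Cv := Nat.card (Subgroup.centralizer ({v} : Set G))
  set Cz := Nat.card (Subgroup.centralizer ({z} : Set G))
  set Tu := Nat.card (theta u)
  set Tv := Nat.card (theta v)
  set Tz := Nat.card (theta z)
  set n := Nat.card N
  set Q := Nat.card (Prods u v z)
  set k := good u v z
  set P := pairs V u v z
  set Ou := orb V u
  set Ov := orb V v
  set Oz := orb V z
  have h3 : P * Tz * (X * D) * (Cu * Cv) ≤ k * Cz * (Tu * Tv) := by
    refine Nat.le_of_mul_le_mul_left (c := Nat.card G) ?_ (Nat.card_pos (α := G))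
    calc Nat.card G * (P * Tz * (X * D) * (Cu * Cv))
        = Nat.card G * P * Tz * (X * D) * (Cu * Cv) := by ring
      _ ≤ Q * Cz * (Tu * Tv) * (Cu * Cv) := Nat.mul_le_mul_right _ h2
      _ = (Cu * Cv * Q) * (Cz * (Tu * Tv)) := by ring
      _ = Nat.card G * (k * Cz * (Tu * Tv)) := by rw [← h1]; ring
  have hpos : 0 < n * Tu * Tv * Tz :=
    Nat.mul_pos (Nat.mul_pos (Nat.mul_pos Nat.card_pos Nat.card_pos) Nat.card_pos) Nat.card_pos
  refine Nat.le_of_mul_le_mul_right (c := n * Tu * Tv * Tz) ?_ hpos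
  calc Nat.card G * Oz * P * (n * Tu * Tv * Tz)
      = P * Tz * X * Oz * ((n * Tu) * (n * Tv)) := by rw [← hG]; ring
    _ = P * Tz * (X * D) * (Cu * Cv) * (D * Ou * Ov * Oz) := by rw [← eu, ← ev]; ring
    _ ≤ k * Cz * (Tu * Tv) * (D * Ou * Ov * Oz) := Nat.mul_le_mul_right _ h3
    _ = k * Tu * Tv * Ou * Ov * (Cz * D * Oz) := by ring
    _ = k * (Ou * Ov) * (n * Tu * Tv * Tz) := by rw [ez]; ring

end H68.EC
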