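import Cfsg.Agent.H68.ExtClosed.Local

/-!
In a minimal counterexample some three conjugates of `V` generate the group.
-/

set_option autoImplicit false
set_option linter.style.haveILetI false

namespace H68.EC

open H70

universe u

variable {G : Type u} [Group G] [Finite G] {V : Subgroup G}

theorem Setup.exists_ne_one (S : Setup V) : ∃ t ∈ V, t ≠ 1 := by
  by_contra h
  push Not at h
  refine S.notNormal ?_
  rw [(Subgroup.eq_bot_iff_forall V).2 h]
  infer_instance

theorem Setup.exists_generating (S : Setup V) :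
    ∃ g h : G, V ⊔ cj g V ⊔ cj h V = ⊤ := by
  classical
  by_contra hne
  push Not at hne
  -- conjugates inside a proper join are moved by its odd core
  have hX : ∀ g h g' : G, cj g' V ≤ V ⊔ cj g V ⊔ cj h V → ∀ x ∈ cj g' V,
      ∃ w ∈ V, x * w⁻¹ ∈ coreIn (V ⊔ cj g V ⊔ cj h V) := by
    intro g h g' hle x hx
    set X := V ⊔ cj g V ⊔ cj h V with hXdef
    have hVX : V ≤ X := le_sup_left.trans le_sup_left
    obtain ⟨K, hK1, hK2, hK3, hK4⟩ := S.cond g'
    obtain ⟨k, hk, he⟩ := exists_conj_of_le_sup (H' := cj g' V) S.isP (S.isP.map _) hK2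
      (le_sup_left.trans hK3) hK4 (card_cj g' V)
    obtain ⟨m, hm, hn⟩ := exists_coreIn_mul hVX (S.sub X hVX (hne g h))
      (sup_le hVX hle (hK1 hk))
    have e : cj g' V = cj m V := by
      rw [← he, show k = m * (m⁻¹ * k) by group, ← cj_cj, cj_eq_self_iff.2 hn]
    rw [e] at hx
    have hw := mem_cj.1 hx
    refine ⟨m⁻¹ * x * m, hw, ?_⟩
    have h2 := (Subgroup.mem_normalizer_iff.1 (le_normalizer_coreIn X (hVX hw)) m⁻¹).1 (inv_mem hm)
    have h3 := mul_mem hm h2
    convert h3 using 1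
    group
  let Φ : G → Prop := fun y => ∀ g s v : G, s ∈ cj g V → v ∈ V → s * v⁻¹ ∈ coreIn (V ⊔ cj g V) →
    y * s * y⁻¹ * v⁻¹ ∈ coreIn (V ⊔ cj (y * g) V)
  have hone : Φ 1 := fun g s v _ _ h => by simpa using h
  have hmul : ∀ a b, Φ a → Φ b → Φ (a * b) := by
    intro a b ha hb g s v hs hv h
    have hs' : b * s * b⁻¹ ∈ cj (b * g) V := by
      rw [← cj_cj]
      exact ⟨s, hs, rfl⟩
    have h2 := ha (b * g) _ v hs' hv (hb g s v hs hv h)
    rw [mul_assoc a b g]
    convert h2 using 1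
    group
  have hpow : ∀ a, Φ a → ∀ j : ℕ, Φ (a ^ j) := by
    intro a ha j
    induction j with
    | zero => simpa using hone
    | succ j ih => rw [pow_succ]; exact hmul _ _ ih ha
  let T : Subgroup G :=
    { carrier := {y | Φ y}
      one_mem' := hone
      mul_mem' := fun ha hb => hmul _ _ ha hb
      inv_mem' := fun {a} ha => by
        show Φ a⁻¹
        have e : a⁻¹ = a ^ (orderOf a - 1) := by
          rw [inv_eq_iff_mul_eq_one, ← pow_succ', Nat.sub_add_cancel (orderOf_pos a),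
            pow_orderOf_eq_one]
        rw [e]
        exact hpow a ha _ }
  have hgen : ∀ h : G, cj h V ≤ T := by
    intro h y hy g s v hs hv hcore
    set X := V ⊔ cj g V ⊔ cj h V with hXdef
    have hVX : V ≤ X := le_sup_left.trans le_sup_left
    have hyX : y ∈ X := le_sup_right (a := V ⊔ cj g V) hy
    have hgX : cj g V ≤ X := le_sup_right.trans le_sup_left
    obtain ⟨v₁, hv1, ho⟩ := hX g h g hgX s hs
    have hLX : V ⊔ cj g V ≤ X := le_sup_left
    have hL1 : s * v₁⁻¹ ∈ V ⊔ cj g V :=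
      mul_mem (Subgroup.mem_sup_right hs) (Subgroup.mem_sup_left (inv_mem hv1))
    have hvv : v₁ = v := by
      have h1 := mul_mem (inv_mem hcore) (coreIn_inf_le hLX ⟨ho, hL1⟩)
      have h2 : v * v₁⁻¹ ∈ coreIn (V ⊔ cj g V) := by
        convert h1 using 1
        group
      exact (mul_inv_eq_one.1 (eq_one_of_mem S.isP (odd_coreIn _) (mul_mem hv (inv_mem hv1)) h2)).symm
    subst hvv
    obtain ⟨w, hw, hoy⟩ := hX g h h le_sup_right y hy
    have hcjX : cj (y * g) V ≤ X := by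
      rw [← cj_cj]
      intro z hz
      have h1 := hgX (mem_cj.1 hz)
      have h2 := mul_mem (mul_mem hyX h1) (inv_mem hyX)
      simpa [mul_assoc] using h2
    have hL2 : V ⊔ cj (y * g) V ≤ X := sup_le hVX hcjX
    refine coreIn_inf_le hL2 ⟨?_, mul_mem (Subgroup.mem_sup_right ?_) (Subgroup.mem_sup_left (inv_mem hv))⟩
    · have hnX : ∀ z ∈ X, ∀ o ∈ coreIn X, z * o * z⁻¹ ∈ coreIn X := fun z hz o hom =>
        (Subgroup.mem_normalizer_iff.1 (le_normalizer_coreIn X hz) o).1 hom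
      have hwv : w * v₁ = v₁ * w := S.comm w hw v₁ hv
      have h3 := mul_mem (hnX y hyX _ ho) (mul_mem hoy (hnX v₁ (hVX hv) _ (inv_mem hoy)))
      have e : y * s * y⁻¹ * v₁⁻¹ =
          y * (s * v₁⁻¹) * y⁻¹ * (y * w⁻¹ * (v₁ * (y * w⁻¹)⁻¹ * v₁⁻¹)) := by
        calc y * s * y⁻¹ * v₁⁻¹
            = y * (s * v₁⁻¹) * y⁻¹ * (y * w⁻¹ * (w * v₁) * y⁻¹ * v₁⁻¹) := by group
          _ = _ := by rw [hwv]; group
      rw [e]
      exact h3
    · rw [← cj_cj]
      exact ⟨s, hs, rfl⟩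
  have hT : T = ⊤ := by
    have h1 : Subgroup.normalClosure (V : Set G) ≤ T := by
      refine Subgroup.closure_le _ |>.2 fun x hx => ?_
      obtain ⟨a, ha, hc⟩ := Group.mem_conjugatesOfSet_iff.1 hx
      obtain ⟨c, rfl⟩ := isConj_iff.1 hc
      exact hgen c ⟨a, ha, rfl⟩
    exact top_le_iff.1 ((S.eq_top_of_normal _ Subgroup.subset_normalClosure).ge.trans h1)
  obtain ⟨t, ht, ht1⟩ := S.exists_ne_one
  obtain ⟨n, hn, hne'⟩ := S.exists_not_fixed ht ht1
  have hnT : n ∈ T := hT ▸ Subgroup.mem_top n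
  have h1 := hnT 1 t t (by simpa using ht) ht (by rw [mul_inv_cancel]; exact one_mem _)
  rw [mul_one, cj_eq_self_iff.2 hn, sup_idem] at h1
  exact hne' (mul_inv_eq_one.1 (eq_one_of_mem S.isP (odd_coreIn V) (coreIn_le V h1) h1))

end H68.EC
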