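import Cfsg.Agent.H68.ExtClosed.Columns
import Cfsg.Agent.H68.ExtClosed.Count
import Cfsg.Agent.H68.ExtClosed.Label
import Cfsg.Agent.H20.Knorr

/-!
A minimal counterexample does not exist: the cubic sums over the principal block.
-/

set_option autoImplicit false
set_option linter.style.haveILetI false
set_option linter.unusedSectionVars false

open Cfsg
open scoped ComplexConjugate

namespace H68.EC

open H70

universe u

variable {G : Type u} [Group G] [Fintype G] {V : Subgroup G}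

open Classical in
/-- The involutions of `V`. -/
noncomputable def invs (V : Subgroup G) : Finset G := Finset.univ.filter fun v => v ∈ V ∧ v ≠ 1

theorem mem_invs {v : G} : v ∈ invs V ↔ v ∈ V ∧ v ≠ 1 := by simp [invs]

theorem sum_subgroup_eq {A : Type*} [AddCommMonoid A] [Fintype V] (f : G → A) :
    ∑ v : V, f v = f 1 + ∑ v ∈ invs V, f v := by
  classical
  rw [← Finset.sum_insert (s := invs V) (a := 1) (by simp [mem_invs])]
  refine (Finset.sum_subtype _ (fun x => ?_) f).symm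
  rw [Finset.mem_insert, mem_invs]
  exact ⟨fun h => h.elim (fun h => h ▸ one_mem V) And.left,
    fun h => (eq_or_ne x 1).imp_right fun h1 => ⟨h, h1⟩⟩

theorem card_invs : (invs V).card + 1 = Nat.card V := by
  classical
  rw [← Finset.card_insert_of_notMem (s := invs V) (a := (1 : G)) (by simp [mem_invs]),
    Nat.card_eq_fintype_card, Fintype.card_of_subtype]
  intro x
  rw [Finset.mem_insert, mem_invs]
  exact ⟨fun h => h.elim (fun h => h ▸ one_mem V) And.left,
    fun h => (eq_or_ne x 1).imp_right fun h1 => ⟨h, h1⟩⟩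

theorem ne_one_of_isConj {a b : G} (h : IsConj a b) (ha : a ≠ 1) : b ≠ 1 := fun hb =>
  ha (isConj_one_left.1 (hb ▸ h))

open Classical in
theorem orb_eq {t : G} (ht1 : t ≠ 1) : orb V t = ((invs V).filter fun v => IsConj t v).card := by
  rw [orb, ← Nat.card_eq_finsetCard]
  refine Nat.card_congr (Equiv.subtypeEquivRight fun x => ?_)
  rw [Finset.mem_filter, mem_invs]
  exact ⟨fun h => ⟨⟨h.1, ne_one_of_isConj h.2 ht1⟩, h.2⟩, fun h => ⟨h.1.1, h.2⟩⟩

open Classical in
theorem pairs_eq {u v z : G} (hu1 : u ≠ 1) :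
    pairs V u v z = ((invs V).filter fun a => IsConj u a ∧ IsConj v (a * z)).card := by
  rw [pairs, ← Nat.card_eq_finsetCard]
  refine Nat.card_congr (Equiv.subtypeEquivRight fun x => ?_)
  rw [Finset.mem_filter, mem_invs]
  exact ⟨fun h => ⟨⟨h.1, ne_one_of_isConj h.2.1 hu1⟩, h.2⟩, fun h => ⟨h.1.1, h.2⟩⟩

theorem orb_congr {a b : G} (h : IsConj a b) : orb V a = orb V b := by
  rw [orb, orb]
  exact Nat.card_congr (Equiv.subtypeEquivRight fun x =>
    ⟨fun hx => ⟨hx.1, h.symm.trans hx.2⟩, fun hx => ⟨hx.1, h.trans hx.2⟩⟩)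

theorem orb_pos {t : G} (ht : t ∈ V) : 0 < orb V t := by
  rw [orb, Nat.card_pos_iff]
  exact ⟨⟨⟨t, ht, IsConj.refl t⟩⟩, inferInstance⟩

open Classical in
/-- Each conjugate class contributes one to the weighted count. -/
theorem sum_inv_orb {a : G} (ha : a ∈ invs V) :
    ∑ u ∈ invs V, (if IsConj u a then ((orb V u : ℝ))⁻¹ else 0) = 1 := by
  obtain ⟨haV, ha1⟩ := mem_invs.1 ha
  have e : ∀ u ∈ invs V, (if IsConj u a then ((orb V u : ℝ))⁻¹ else 0) =
      if IsConj a u then ((orb V a : ℝ))⁻¹ else 0 := by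
    intro u _
    by_cases h : IsConj u a
    · rw [if_pos h, if_pos h.symm, orb_congr h]
    · rw [if_neg h, if_neg fun h' => h h'.symm]
  rw [Finset.sum_congr rfl e, ← Finset.sum_filter, Finset.sum_const, ← orb_eq ha1, nsmul_eq_mul,
    mul_inv_cancel₀ (by exact_mod_cast (orb_pos haV).ne')]

/-- The weighted number of factorisations of `z`. -/
theorem Setup.sum_pairs (S : Setup V) {z : G} (hz : z ∈ invs V) :
    ∑ u ∈ invs V, ∑ v ∈ invs V, (pairs V u v z : ℝ) / ((orb V u : ℝ) * orb V v) =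
      ((invs V).card : ℝ) - 1 := by
  classical
  obtain ⟨hzV, hz1⟩ := mem_invs.1 hz
  have e : ∀ u ∈ invs V, ∀ v ∈ invs V, (pairs V u v z : ℝ) / ((orb V u : ℝ) * orb V v) =
      ∑ a ∈ invs V, (if IsConj u a then ((orb V u : ℝ))⁻¹ else 0) *
        (if IsConj v (a * z) then ((orb V v : ℝ))⁻¹ else 0) := by
    intro u hu v _
    rw [pairs_eq (mem_invs.1 hu).2, ← Finset.sum_boole, Finset.sum_div]
    refine Finset.sum_congr rfl fun a _ => ?_
    by_cases h1 : IsConj u a
    · by_cases h2 : IsConj v (a * z)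
      · rw [if_pos ⟨h1, h2⟩, if_pos h1, if_pos h2, one_div, mul_inv]
      · rw [if_neg fun h' => h2 h'.2, if_pos h1, if_neg h2, zero_div, mul_zero]
    · rw [if_neg fun h' => h1 h'.1, if_neg h1, zero_div, zero_mul]
  rw [Finset.sum_congr rfl fun u hu => Finset.sum_congr rfl fun v hv => e u hu v hv]
  rw [Finset.sum_congr rfl fun u _ => Finset.sum_comm, Finset.sum_comm]
  simp only [← Finset.mul_sum, ← Finset.sum_mul]
  have key : ∀ a ∈ invs V, (∑ u ∈ invs V, (if IsConj u a then ((orb V u : ℝ))⁻¹ else 0)) *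
      (∑ v ∈ invs V, (if IsConj v (a * z) then ((orb V v : ℝ))⁻¹ else 0)) =
      if a = z then 0 else 1 := by
    intro a ha
    rw [sum_inv_orb ha, one_mul]
    split_ifs with h
    · subst h
      rw [S.sq a hzV]
      exact Finset.sum_eq_zero fun v hv => if_neg fun hc =>
        (mem_invs.1 hv).2 (isConj_one_left.1 hc)
    · refine sum_inv_orb (mem_invs.2 ⟨mul_mem (mem_invs.1 ha).1 hzV, fun h1 => h ?_⟩)
      rw [eq_inv_of_mul_eq_one_left h1, S.inv_eq hzV]
  rw [Finset.sum_congr rfl key]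
  have h2 : ∀ a ∈ invs V, (if a = z then (0 : ℝ) else 1) = 1 - (if a = z then 1 else 0) := by
    intro a _
    split_ifs <;> norm_num
  rw [Finset.sum_congr rfl h2, Finset.sum_sub_distrib, Finset.sum_const, nsmul_eq_mul, mul_one,
    Finset.sum_ite_eq', if_pos hz]

variable {M : Ideal AlgInt} [M.IsPrime]

/-- The averaged triple product. -/
theorem Setup.triple (S : Setup V) (hM : IsPModular 2 M) {u v z : G} (hu : u ∈ V) (hv : v ∈ V)
    (hz : z ∈ V) (hz1 : z ≠ 1) :
    (Nat.card G : ℝ) * ∑ χ ∈ H22.blockFinset (principalBlock M G),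
        rv χ u * rv χ v * rv χ z / rv χ 1 = (good u v z : ℝ) * cz M z := by
  classical
  apply Complex.ofReal_injective
  push_cast
  have h1 : ∀ g : G, ∑ χ ∈ H22.blockFinset (principalBlock M G),
      (χ : G → ℂ) (g * v * g⁻¹ * u) * (χ : G → ℂ) z =
      if IsConj z (H20.pPart 2 (u * (g * v * g⁻¹))) then (cz M z : ℂ) else 0 := fun g => by
    rw [← S.eval hM hu hv hz hz1 g]
    refine Finset.sum_congr rfl fun χ _ => ?_
    congr 1
    rw [← H12.irr_isClassFunction χ (g * v * g⁻¹ * u) u]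
    congr 1
    group
  have h2 := Finset.sum_congr rfl fun g (_ : g ∈ (Finset.univ : Finset G)) => h1 g
  rw [Finset.sum_comm, ← Finset.sum_filter, Finset.sum_const, nsmul_eq_mul,
    ← Fintype.card_subtype, ← Nat.card_eq_fintype_card] at h2
  rw [good, ← h2, Finset.mul_sum]
  refine Finset.sum_congr rfl fun χ _ => ?_
  rw [← Finset.sum_mul, H20.sum_irr_conj_mul, irr_eq_rv χ (S.sq u hu), irr_eq_rv χ (S.sq v hv),
    irr_eq_rv χ (S.sq z hz), irr_eq_rv χ (one_mul 1)]
  ring

theorem rv_one_pos (χ : IrrCharacter G) : 0 < rv χ 1 := by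
  rw [rv, H12.irr_apply_one, Complex.natCast_re]
  exact_mod_cast H12.irr_degree_pos χ

/-- No minimal counterexample. -/
theorem Setup.false (S : Setup V) : False := by
  classical
  haveI : Fact (Nat.Prime 2) := ⟨Nat.prime_two⟩
  obtain ⟨M, hM⟩ := H20.exists_isPModular Nat.prime_two
  haveI := hM.2.1.isPrime
  haveI : Fintype V := Fintype.ofFinite _
  obtain ⟨g, h, htop⟩ := S.exists_generating
  set s := invs V with hs
  set B := H22.blockFinset (principalBlock M G) with hB
  set n : ℝ := (Nat.card V : ℝ) with hn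
  set N0 : ℝ := (s.card : ℝ) with hN0
  set bv : IrrCharacter G → ℝ := fun χ => ∑ v ∈ s, rv χ v with hbv
  set C : ℝ := ∑ χ ∈ B, bv χ * bv χ with hC
  have hord : ∀ v ∈ s, orderOf v = 2 := fun v hv =>
    H66.orderOf_two_of_sq (mem_invs.1 hv).2 (S.sq v (mem_invs.1 hv).1)
  have hnN : n = N0 + 1 := by rw [hn, hN0, ← card_invs (V := V)]; push_cast; rfl
  -- the number of involutions
  obtain ⟨t, ht, ht1⟩ := S.exists_ne_one
  have hN3 : 3 ≤ N0 := by
    have h3 := S.three_le_orbit ht ht1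
    rw [show Nat.card {v : G // v ∈ V ∧ IsConj t v} = orb V t from rfl, orb_eq ht1] at h3
    rw [hN0]
    exact_mod_cast h3.trans (Finset.card_filter_le _ _)
  -- the second moment
  have hC2 : C = ∑ u ∈ s, (orb V u : ℝ) * cz M u := by
    simp only [hC, hbv, Finset.sum_mul, Finset.mul_sum]
    rw [Finset.sum_comm]
    refine Finset.sum_congr rfl fun u hu => ?_
    rw [Finset.sum_comm, Finset.sum_congr rfl fun v hv =>
      (Finset.sum_congr rfl fun χ _ => mul_comm _ _).trans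
        (column_eq (M := M) hM (hord u hu) (hord v hv)), ← Finset.sum_filter, Finset.sum_const,
      nsmul_eq_mul, ← orb_eq (mem_invs.1 hu).2]
  have hC3 : 3 * n * N0 ≤ C := by
    rw [hC2]
    have : ∀ u ∈ s, 3 * n ≤ (orb V u : ℝ) * cz M u := fun u hu => by
      obtain ⟨hu', hu1⟩ := mem_invs.1 hu
      have e1 : (3 : ℝ) ≤ orb V u := by exact_mod_cast S.three_le_orbit hu' hu1
      have e2 : n ≤ (cz M u : ℝ) := by rw [hn]; exact_mod_cast S.card_le_cz hM hu'
      exact mul_le_mul e1 e2 (by rw [hn]; positivity) (by linarith)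
    refine le_trans (le_of_eq ?_) (Finset.sum_le_sum this)
    rw [Finset.sum_const, nsmul_eq_mul, hN0]
    ring
  -- lower bound
  have hlow : (N0 - 1) * C ≤ ∑ χ ∈ B, bv χ * bv χ * bv χ / rv χ 1 := by
    have e1 : ∑ χ ∈ B, bv χ * bv χ * bv χ / rv χ 1 =
        ∑ u ∈ s, ∑ v ∈ s, ∑ z ∈ s, ∑ χ ∈ B, rv χ u * rv χ v * rv χ z / rv χ 1 := by
      simp only [hbv, Finset.sum_mul, Finset.mul_sum, Finset.sum_div]
      rw [Finset.sum_comm]
      refine Finset.sum_congr rfl fun u _ => ?_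
      rw [Finset.sum_comm]
      refine Finset.sum_congr rfl fun v _ => ?_
      rw [Finset.sum_comm]
      exact Finset.sum_congr rfl fun z _ => Finset.sum_congr rfl fun χ _ => by ring
    have e2 : (N0 - 1) * C = ∑ z ∈ s, ∑ u ∈ s, ∑ v ∈ s,
        (cz M z : ℝ) * orb V z * ((pairs V u v z : ℝ) / ((orb V u : ℝ) * orb V v)) := by
      rw [hC2, Finset.mul_sum]
      refine Finset.sum_congr rfl fun z hz => ?_
      simp only [← Finset.mul_sum]
      rw [S.sum_pairs hz, hN0]
      ring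
    rw [e1, e2, Finset.sum_comm]
    refine Finset.sum_le_sum fun u hu => ?_
    rw [Finset.sum_comm]
    refine Finset.sum_le_sum fun v hv => Finset.sum_le_sum fun z hz => ?_
    obtain ⟨hu', hu1⟩ := mem_invs.1 hu
    obtain ⟨hv', hv1⟩ := mem_invs.1 hv
    obtain ⟨hz', hz1⟩ := mem_invs.1 hz
    have hc := S.pairs_le_good hu' hv' hz' hu1 hv1 hz1
    have hc' : (Nat.card G : ℝ) * orb V z * pairs V u v z ≤
        (good u v z : ℝ) * ((orb V u : ℝ) * orb V v) := by exact_mod_cast hc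
    have hT := S.triple hM hu' hv' hz' hz1
    have hG : (0 : ℝ) < Nat.card G := by exact_mod_cast Nat.card_pos
    have hou : (0 : ℝ) < (orb V u : ℝ) * orb V v :=
      mul_pos (by exact_mod_cast orb_pos hu') (by exact_mod_cast orb_pos hv')
    refine le_of_mul_le_mul_left ?_ hG
    rw [hT, ← mul_div_assoc, ← mul_div_assoc, div_le_iff₀ hou]
    calc (Nat.card G : ℝ) * ((cz M z : ℝ) * orb V z * pairs V u v z)
        = (cz M z : ℝ) * ((Nat.card G : ℝ) * orb V z * pairs V u v z) := by ring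
      _ ≤ (cz M z : ℝ) * ((good u v z : ℝ) * ((orb V u : ℝ) * orb V v)) :=
          mul_le_mul_of_nonneg_left hc' (Nat.cast_nonneg _)
      _ = _ := by ring
  -- upper bound
  have hone : H12.oneIrr G ∈ B := H22.mem_blockFinset.2 (H20.mem_blockOf_self (H12.oneIrr G))
  have hb1 : bv (H12.oneIrr G) = N0 := by
    simp [hbv, rv, H12.oneIrr_apply, hN0]
  have hd1 : rv (H12.oneIrr G) 1 = 1 := by simp [rv, H12.oneIrr_apply]
  set c : ℝ := 2 * n / 3 - 1 with hc
  have hbd : ∀ χ ∈ B.erase (H12.oneIrr G), bv χ ≤ c * rv χ 1 := by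
    intro χ hχ
    obtain ⟨m, hm, hm3⟩ := exists_fixed_dim χ (Finset.ne_of_mem_erase hχ) V htop
    have e := congrArg Complex.re ((sum_subgroup_eq (fun x => (χ : G → ℂ) x)).symm.trans hm)
    simp only [Complex.add_re, Complex.re_sum, Complex.mul_re, Complex.natCast_re,
      Complex.natCast_im, mul_zero, sub_zero] at e
    have hd : rv χ 1 = (H12.degree (χ : G → ℂ) : ℝ) := by
      rw [rv, H12.irr_apply_one, Complex.natCast_re]
    have hm3' : 3 * (m : ℝ) ≤ 2 * rv χ 1 := by rw [hd]; exact_mod_cast hm3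
    have e' : rv χ 1 + bv χ = n * m := e
    have hn0 : 0 ≤ n := by rw [hn]; positivity
    rw [hc]
    nlinarith [mul_le_mul_of_nonneg_left hm3' hn0]
  have hup : ∀ χ ∈ B.erase (H12.oneIrr G),
      bv χ * bv χ * bv χ / rv χ 1 ≤ c * (bv χ * bv χ) := by
    intro χ hχ
    rw [div_le_iff₀ (rv_one_pos χ)]
    calc bv χ * bv χ * bv χ ≤ bv χ * bv χ * (c * rv χ 1) :=
          mul_le_mul_of_nonneg_left (hbd χ hχ) (mul_self_nonneg _)
      _ = _ := by ring
  obtain ⟨ψ, hψ, hψneg⟩ : ∃ ψ ∈ B.erase (H12.oneIrr G), bv ψ < 0 := by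
    by_contra hno
    push Not at hno
    have h0 : ∑ χ ∈ B, rv χ 1 * bv χ = 0 := by
      simp only [hbv, Finset.mul_sum]
      rw [Finset.sum_comm]
      exact Finset.sum_eq_zero fun v hv => column_one hM (hord v hv)
    rw [← Finset.add_sum_erase B _ hone, hb1, hd1, one_mul] at h0
    have : 0 ≤ ∑ χ ∈ B.erase (H12.oneIrr G), rv χ 1 * bv χ :=
      Finset.sum_nonneg fun χ hχ => mul_nonneg (rv_one_pos χ).le (hno χ hχ)
    linarith
  have hstrict : ∑ χ ∈ B.erase (H12.oneIrr G), bv χ * bv χ * bv χ / rv χ 1 <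
      ∑ χ ∈ B.erase (H12.oneIrr G), c * (bv χ * bv χ) := by
    refine Finset.sum_lt_sum hup ⟨ψ, hψ, ?_⟩
    have h1 : bv ψ * bv ψ * bv ψ / rv ψ 1 < 0 := by
      refine div_neg_of_neg_of_pos ?_ (rv_one_pos ψ)
      exact mul_neg_of_pos_of_neg (mul_pos_of_neg_of_neg hψneg hψneg) hψneg
    have h2 : 0 ≤ c * (bv ψ * bv ψ) :=
      mul_nonneg (by rw [hc, hnN]; linarith) (mul_self_nonneg _)
    linarith
  rw [← Finset.mul_sum] at hstrict
  have hsplit : C = N0 * N0 + ∑ χ ∈ B.erase (H12.oneIrr G), bv χ * bv χ := by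
    rw [hC, ← Finset.add_sum_erase B _ hone, hb1]
  have htot : ∑ χ ∈ B, bv χ * bv χ * bv χ / rv χ 1 =
      N0 * N0 * N0 + ∑ χ ∈ B.erase (H12.oneIrr G), bv χ * bv χ * bv χ / rv χ 1 := by
    rw [← Finset.add_sum_erase B _ hone, hb1, hd1, div_one]
  rw [htot] at hlow
  have hR : ∑ χ ∈ B.erase (H12.oneIrr G), bv χ * bv χ = C - N0 * N0 := by linarith
  rw [hR, hc] at hstrict
  rw [hnN] at hC3 hstrict
  -- arithmetic
  have h1 : (N0 - 2) * C < N0 * N0 * (N0 + 1) := by nlinarith [hlow, hstrict]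
  have h2 : (N0 - 2) * (3 * (N0 + 1) * N0) ≤ (N0 - 2) * C :=
    mul_le_mul_of_nonneg_left hC3 (by linarith)
  have h3 : 0 < (N0 + 1) * N0 := mul_pos (by linarith) (by linarith)
  have h4 : 0 ≤ (N0 + 1) * N0 * (2 * N0 - 6) := mul_nonneg h3.le (by linarith)
  nlinarith [h1, h2, h4]

end H68.EC
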