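import Cfsg.Agent.H66.Inverted

/-!
A group of odd order acted on by a four-group is the product of the three centralisers, as sets.
-/

set_option autoImplicit false
set_option linter.style.haveILetI false

namespace H68.EC

variable {G : Type*} [Group G]

/-- The ambiguity in a product of three centralisers lies in the common centraliser. -/
theorem four_unique {K : Subgroup G} (hK : ∀ x ∈ K, Odd (orderOf x)) {u v : G} (hu : u * u = 1)
    (hv : v * v = 1) (huv : u * v = v * u) (hnu : ∀ x ∈ K, u * x * u⁻¹ ∈ K)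
    (hnv : ∀ x ∈ K, v * x * v⁻¹ ∈ K) {p y y' q : G} (hy' : y' ∈ K)
    (hq : q ∈ K) (hpu : Commute u p) (hyv : Commute v y) (hy'v : Commute v y')
    (hqw : Commute (u * v) q) (e : p * y = y' * q) :
    Commute v p ∧ Commute u q ∧ Commute v q := by
  have fixof : ∀ {a x : G}, Commute a x → a * x * a⁻¹ = x := fun h => by
    rw [h.eq, mul_inv_cancel_right]
  have comof : ∀ {a x : G}, a * x * a⁻¹ = x → Commute a x := fun h =>
    mul_inv_eq_iff_eq_mul.1 h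
  have hu' : ∀ x : G, u * (u * x * u⁻¹) * u⁻¹ = x := fun x => by
    rw [H66.inv_eq_self_of_sq hu, show u * (u * x * u) * u = (u * u) * x * (u * u) by group, hu,
      one_mul, mul_one]
  have hv' : ∀ x : G, v * (v * x * v⁻¹) * v⁻¹ = x := fun x => by
    rw [H66.inv_eq_self_of_sq hv, show v * (v * x * v) * v = (v * v) * x * (v * v) by group, hv,
      one_mul, mul_one]
  have hswap : ∀ x : G, u * (v * x * v⁻¹) * u⁻¹ = v * (u * x * u⁻¹) * v⁻¹ := fun x => by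
    calc u * (v * x * v⁻¹) * u⁻¹ = (u * v) * x * (u * v)⁻¹ := by group
      _ = (v * u) * x * (v * u)⁻¹ := by rw [huv]
      _ = _ := by group
  have hq' : u * q * u⁻¹ = v * q * v⁻¹ := by
    have h1 : u * (v * q * v⁻¹) * u⁻¹ = q := by
      calc u * (v * q * v⁻¹) * u⁻¹ = (u * v) * q * (u * v)⁻¹ := by group
        _ = q := fixof hqw
    rw [← hu' (v * q * v⁻¹), h1]
  set r := v * q * v⁻¹ * q⁻¹ with hr
  have hrK : r ∈ K := mul_mem (hnv q hq) (inv_mem hq)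
  -- `u` inverts `r`
  have hur : u * r * u⁻¹ = r⁻¹ := by
    calc u * r * u⁻¹ = u * (v * q * v⁻¹) * u⁻¹ * (u * q * u⁻¹)⁻¹ := by rw [hr]; group
      _ = q * (v * q * v⁻¹)⁻¹ := by
          rw [hswap, hq', hv']
      _ = r⁻¹ := by rw [hr]; group
  have e' : v * p * v⁻¹ * y = y' * (v * q * v⁻¹) := by
    calc v * p * v⁻¹ * y = v * p * v⁻¹ * (v * y * v⁻¹) := by rw [fixof hyv]
      _ = v * (p * y) * v⁻¹ := by group
      _ = v * (y' * q) * v⁻¹ := by rw [e]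
      _ = v * y' * v⁻¹ * (v * q * v⁻¹) := by group
      _ = y' * (v * q * v⁻¹) := by rw [fixof hy'v]
  have hs : v * p * v⁻¹ * p⁻¹ = y' * r * y'⁻¹ := by
    calc v * p * v⁻¹ * p⁻¹ = (v * p * v⁻¹ * y) * (p * y)⁻¹ := by group
      _ = y' * r * y'⁻¹ := by rw [e', e, hr]; group
  have hsu : u * (y' * r * y'⁻¹) * u⁻¹ = y' * r * y'⁻¹ := by
    rw [← hs]
    calc u * (v * p * v⁻¹ * p⁻¹) * u⁻¹ = u * (v * p * v⁻¹) * u⁻¹ * (u * p * u⁻¹)⁻¹ := by group
      _ = v * p * v⁻¹ * p⁻¹ := by rw [hswap, fixof hpu]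
  set d := y'⁻¹ * (u * y' * u⁻¹) with hd
  have hdK : d ∈ K := mul_mem (inv_mem hy') (hnu y' hy')
  have hdr : d * r⁻¹ * d⁻¹ = r := by
    calc d * r⁻¹ * d⁻¹ = y'⁻¹ * (u * y' * u⁻¹ * (u * r * u⁻¹) * (u * y' * u⁻¹)⁻¹) * y' := by
          rw [hur, hd]; group
      _ = y'⁻¹ * (u * (y' * r * y'⁻¹) * u⁻¹) * y' := by group
      _ = r := by rw [hsu]; group
  have hd2 : Commute (d * d) r := comof (by
    have h2 : d * r * d⁻¹ = r⁻¹ := by
      calc d * r * d⁻¹ = (d * r⁻¹ * d⁻¹)⁻¹ := by group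
        _ = r⁻¹ := by rw [hdr]
    calc d * d * r * (d * d)⁻¹ = d * (d * r * d⁻¹) * d⁻¹ := by group
      _ = r := by rw [h2, hdr])
  have hdc : Commute d r := by
    obtain ⟨m, hm⟩ := hK d hdK
    have hdm : d = (d * d) ^ (m + 1) := by
      rw [← pow_two, ← pow_mul, show 2 * (m + 1) = orderOf d + 1 by omega, pow_succ,
        pow_orderOf_eq_one, one_mul]
    rw [hdm]
    exact hd2.pow_left _
  have hr1 : r = 1 := by
    have h2 : r⁻¹ = r := by
      calc r⁻¹ = d * r⁻¹ * d⁻¹ := (fixof hdc.inv_right).symm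
        _ = r := hdr
    refine H66.eq_one_of_sq_of_odd (hK r hrK) ?_
    nth_rewrite 1 [← h2]
    exact inv_mul_cancel r
  have hqv : v * q * v⁻¹ = q := mul_inv_eq_one.1 hr1
  refine ⟨comof ?_, comof (hq'.trans hqv), comof hqv⟩
  have h3 : v * p * v⁻¹ * p⁻¹ = 1 := by rw [hs, hr1, mul_one, mul_inv_cancel]
  exact mul_inv_eq_one.1 h3

/-- `K = C_K(u) C_K(v) C_K(uv)`. -/
theorem four_product [Finite G] {K : Subgroup G} (hK : Odd (Nat.card K)) {u v : G} (hu : u * u = 1)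
    (hv : v * v = 1) (huv : u * v = v * u) (hnu : ∀ x ∈ K, u * x * u⁻¹ ∈ K)
    (hnv : ∀ x ∈ K, v * x * v⁻¹ ∈ K) {x : G} (hx : x ∈ K) :
    ∃ p ∈ K, Commute u p ∧ ∃ q ∈ K, Commute v q ∧ ∃ r ∈ K, Commute (u * v) r ∧ x = p * q * r := by
  classical
  have hKo := H66.odd_orderOf_of_mem_odd_card hK
  set A := K ⊓ Subgroup.centralizer {u} ⊓ Subgroup.centralizer {v} with hA
  set Cu := K ⊓ Subgroup.centralizer {u} with hCu
  set Cv := K ⊓ Subgroup.centralizer {v} with hCv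
  set Cw := K ⊓ Subgroup.centralizer {u * v} with hCw
  have com : ∀ {a y : G}, y ∈ Subgroup.centralizer {a} → Commute a y := fun h =>
    (Subgroup.mem_centralizer_singleton_iff.1 h).symm
  have mem : ∀ {a y : G}, Commute a y → y ∈ Subgroup.centralizer {a} := fun h =>
    Subgroup.mem_centralizer_singleton_iff.2 h.symm.eq
  have hswap : ∀ y : G, u * (v * y * v⁻¹) * u⁻¹ = v * (u * y * u⁻¹) * v⁻¹ := fun y => by
    calc u * (v * y * v⁻¹) * u⁻¹ = (u * v) * y * (u * v)⁻¹ := by group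
      _ = (v * u) * y * (v * u)⁻¹ := by rw [huv]
      _ = _ := by group
  -- the order
  have hcard : Nat.card Cu * Nat.card Cv * Nat.card Cw = Nat.card K * (Nat.card A * Nat.card A) := by
    have e0 := H66.card_inverted_factor hKo hu hnu
    have hσ : ∀ k ∈ Cfsg.invertedBy K u,
        (MulAut.conj v).toMonoidHom k ∈ Cfsg.invertedBy K u := by
      intro k hk
      refine ⟨hnv k hk.1, ?_⟩
      show u * (v * k * v⁻¹) * u⁻¹ = (v * k * v⁻¹)⁻¹
      rw [hswap, hk.2]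
      group
    have hσ2 : ∀ k ∈ Cfsg.invertedBy K u,
        (MulAut.conj v).toMonoidHom ((MulAut.conj v).toMonoidHom k) = k := fun k _ => by
      show v * (v * k * v⁻¹) * v⁻¹ = k
      calc v * (v * k * v⁻¹) * v⁻¹ = (v * v) * k * (v * v)⁻¹ := by group
        _ = k := by rw [hv]; group
    have e1 := (H66.invertedBy_oddTwisted hKo u).card_factor _ hσ hσ2
    have huCv : ∀ y ∈ Cv, u * y * u⁻¹ ∈ Cv := fun y hy => by
      refine ⟨hnu y hy.1, mem (mul_inv_eq_iff_eq_mul.1 ?_)⟩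
      rw [← hswap, (com hy.2).eq, mul_inv_cancel_right]
    have huCw : ∀ y ∈ Cw, u * y * u⁻¹ ∈ Cw := fun y hy => by
      refine ⟨hnu y hy.1, mem (mul_inv_eq_iff_eq_mul.1 ?_)⟩
      calc u * v * (u * y * u⁻¹) * (u * v)⁻¹ = u * (v * (u * y * u⁻¹) * v⁻¹) * u⁻¹ := by group
        _ = u * (u * (v * y * v⁻¹) * u⁻¹) * u⁻¹ := by rw [← hswap]
        _ = u * ((u * v) * y * (u * v)⁻¹) * u⁻¹ := by group
        _ = u * y * u⁻¹ := by rw [(com hy.2).eq, mul_inv_cancel_right]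
    have e2 := H66.card_inverted_factor (X := Cv) (fun y hy => hKo y hy.1) hu huCv
    have e3 := H66.card_inverted_factor (X := Cw) (fun y hy => hKo y hy.1) hu huCw
    have i2 : Cv ⊓ Subgroup.centralizer {u} = A := by
      rw [hA, hCv]; exact inf_right_comm _ _ _
    have i3 : Cw ⊓ Subgroup.centralizer {u} = A := by
      ext y
      constructor
      · rintro ⟨⟨hy, hw⟩, hyu⟩
        refine ⟨⟨hy, hyu⟩, mem ?_⟩
        have h2 := (com hyu).inv_left.mul_left (com hw)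
        rwa [inv_mul_cancel_left] at h2
      · rintro ⟨⟨hy, hyu⟩, hyv⟩
        exact ⟨⟨hy, mem ((com hyu).mul_left (com hyv))⟩, hyu⟩
    have j2 : Nat.card (Cfsg.invertedBy Cv u) = Nat.card
        {a : G // a ∈ Cfsg.invertedBy K u ∧ (MulAut.conj v).toMonoidHom a = a} := by
      refine Nat.card_congr (Equiv.subtypeEquivRight fun a => ?_)
      constructor
      · rintro ⟨⟨ha, hav⟩, hau⟩
        exact ⟨⟨ha, hau⟩, by simp [(com hav).eq]⟩
      · rintro ⟨⟨ha, hau⟩, hav⟩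
        exact ⟨⟨ha, mem (mul_inv_eq_iff_eq_mul.1 hav)⟩, hau⟩
    have j3 : Nat.card (Cfsg.invertedBy Cw u) = Nat.card
        {b : G // b ∈ Cfsg.invertedBy K u ∧ (MulAut.conj v).toMonoidHom b = b⁻¹} := by
      refine Nat.card_congr (Equiv.subtypeEquivRight fun a => ?_)
      constructor
      · rintro ⟨⟨ha, haw⟩, hau⟩
        refine ⟨⟨ha, hau⟩, ?_⟩
        show v * a * v⁻¹ = a⁻¹
        calc v * a * v⁻¹ = u⁻¹ * ((u * v) * a * (u * v)⁻¹) * u := by group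
          _ = u * a * u⁻¹ := by
              rw [(com haw).eq, mul_inv_cancel_right, H66.inv_eq_self_of_sq hu]
          _ = a⁻¹ := hau
      · rintro ⟨⟨ha, hau⟩, hav⟩
        refine ⟨⟨ha, mem (mul_inv_eq_iff_eq_mul.1 ?_)⟩, hau⟩
        have hav' : v * a * v⁻¹ = a⁻¹ := hav
        calc u * v * a * (u * v)⁻¹ = u * (v * a * v⁻¹) * u⁻¹ := by group
          _ = a := by rw [hav', ← conj_inv, hau, inv_inv]
    rw [i2, j2] at e2
    rw [i3, j3] at e3
    rw [e0, e1, e2, e3]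
    ring
  -- the product map
  let f : Cu × Cv × Cw → K := fun t =>
    ⟨t.1.1 * t.2.1.1 * t.2.2.1, mul_mem (mul_mem t.1.2.1 t.2.1.2.1) t.2.2.2.1⟩
  have hmem : ∀ t s : Cu × Cv × Cw, f t = f s →
      (s.1.1⁻¹ * t.1.1 ∈ A ∧ s.2.2.1 * t.2.2.1⁻¹ ∈ A) := by
    intro t s h
    have h' : t.1.1 * t.2.1.1 * t.2.2.1 = s.1.1 * s.2.1.1 * s.2.2.1 := congrArg Subtype.val h
    have e : s.1.1⁻¹ * t.1.1 * t.2.1.1 = s.2.1.1 * (s.2.2.1 * t.2.2.1⁻¹) := by
      calc s.1.1⁻¹ * t.1.1 * t.2.1.1 = s.1.1⁻¹ * (t.1.1 * t.2.1.1 * t.2.2.1) * t.2.2.1⁻¹ := by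
            group
        _ = _ := by rw [h']; group
    have h1 : Commute u (s.1.1⁻¹ * t.1.1) := (com s.1.2.2).inv_right.mul_right (com t.1.2.2)
    have h2 : Commute (u * v) (s.2.2.1 * t.2.2.1⁻¹) :=
      (com s.2.2.2.2).mul_right (com t.2.2.2.2).inv_right
    obtain ⟨a1, a2, a3⟩ := four_unique hKo hu hv huv hnu hnv s.2.1.2.1
      (mul_mem s.2.2.2.1 (inv_mem t.2.2.2.1)) h1 (com t.2.1.2.2) (com s.2.1.2.2) h2 e
    exact ⟨⟨⟨K.mul_mem (K.inv_mem s.1.2.1) t.1.2.1, mem h1⟩, mem a1⟩,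
      ⟨⟨K.mul_mem s.2.2.2.1 (K.inv_mem t.2.2.2.1), mem a2⟩, mem a3⟩⟩
  let σ : Set.range f → Cu × Cv × Cw := fun y => y.2.choose
  have hσ : ∀ y : Set.range f, f (σ y) = y := fun y => y.2.choose_spec
  let Ψ : Cu × Cv × Cw → Set.range f × (A × A) := fun t =>
    (⟨f t, t, rfl⟩, ⟨_, (hmem t (σ ⟨f t, t, rfl⟩) (hσ ⟨f t, t, rfl⟩).symm).1⟩,
      ⟨_, (hmem t (σ ⟨f t, t, rfl⟩) (hσ ⟨f t, t, rfl⟩).symm).2⟩)
  have hΨ : Function.Injective Ψ := by
    intro t s h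
    have h0 : (⟨f t, t, rfl⟩ : Set.range f) = ⟨f s, s, rfl⟩ := congrArg Prod.fst h
    have hsg : σ ⟨f t, t, rfl⟩ = σ ⟨f s, s, rfl⟩ := congrArg σ h0
    have h1 : (σ ⟨f t, t, rfl⟩).1.1⁻¹ * t.1.1 = (σ ⟨f s, s, rfl⟩).1.1⁻¹ * s.1.1 :=
      congrArg Subtype.val (congrArg (fun z => z.2.1) h)
    have h2 : (σ ⟨f t, t, rfl⟩).2.2.1 * t.2.2.1⁻¹ = (σ ⟨f s, s, rfl⟩).2.2.1 * s.2.2.1⁻¹ :=
      congrArg Subtype.val (congrArg (fun z => z.2.2) h)
    rw [hsg] at h1 h2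
    have e1 := mul_left_cancel h1
    have e2 := inv_injective (mul_left_cancel h2)
    have h3 : t.1.1 * t.2.1.1 * t.2.2.1 = s.1.1 * s.2.1.1 * s.2.2.1 :=
      congrArg Subtype.val (congrArg Subtype.val h0)
    rw [e1, e2] at h3
    exact Prod.ext (Subtype.ext e1)
      (Prod.ext (Subtype.ext (mul_left_cancel (mul_right_cancel h3))) (Subtype.ext e2))
  have hle := Nat.card_le_card_of_injective Ψ hΨ
  simp only [Nat.card_prod] at hle
  rw [← mul_assoc, hcard] at hle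
  have hAp : 0 < Nat.card A * Nat.card A := Nat.mul_pos Nat.card_pos Nat.card_pos
  have hfull := Set.eq_of_subset_of_ncard_le (Set.subset_univ (Set.range f)) (by
    rw [Set.ncard_univ, ← Nat.card_coe_set_eq]
    exact Nat.le_of_mul_le_mul_right hle hAp) (Set.toFinite _)
  obtain ⟨t, ht⟩ : (⟨x, hx⟩ : K) ∈ Set.range f := by rw [hfull]; trivial
  exact ⟨t.1, t.1.2.1, com t.1.2.2, t.2.1, t.2.1.2.1, com t.2.1.2.2, t.2.2, t.2.2.2.1,
    com t.2.2.2.2, (congrArg Subtype.val ht).symm⟩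

end H68.EC
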