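import Cfsg.Agent.H68.ExtClosed.Reduce
import Cfsg.Agent.H68.ExtClosed.FourProduct
import Cfsg.Agent.H85.BrauerSuzuki

/-!
The local structure of a minimal counterexample to the factorisation for an elementary abelian
`2`-subgroup: centralisers, balance and the bound for the index of the normaliser.
-/

set_option autoImplicit false
set_option linter.style.haveILetI false
set_option linter.unusedSectionVars false

namespace H68.EC

open H70

universe u

variable {G : Type u} [Group G]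

/-- A minimal counterexample for elementary abelian subgroups. -/
structure Setup (V : Subgroup G) : Prop where
  sq : ∀ a ∈ V, a * a = 1
  cond : Cond V
  core : Cfsg.pPrimeCore 2 G = ⊥
  notNormal : ¬ V.Normal
  noCentral : ∀ t ∈ V, t ≠ 1 → t ∉ Subgroup.center G
  sub : ∀ S : Subgroup G, V ≤ S → S ≠ ⊤ → Factorises (V.subgroupOf S)

/-- The odd core of the centraliser of an element. -/
abbrev theta (t : G) : Subgroup G := coreIn (Subgroup.centralizer {t})

/-- The odd core of the centraliser of `V`. -/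
abbrev dCore (V : Subgroup G) : Subgroup G := coreIn (Subgroup.centralizer (V : Set G))

theorem cj_normalizer_le {X : Subgroup G} {S : Subgroup G} (g : G)
    (h : S ≤ Subgroup.normalizer (X : Set G)) :
    cj g S ≤ Subgroup.normalizer (cj g X : Set G) :=
  (Subgroup.map_mono h).trans (Subgroup.le_normalizer_map _)

theorem coreIn_cj [Finite G] (g : G) (S : Subgroup G) : coreIn (cj g S) = cj g (coreIn S) := by
  have key : ∀ (g : G) (S : Subgroup G), cj g (coreIn S) ≤ coreIn (cj g S) := fun g S =>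
    le_coreIn (cj_mono g (coreIn_le S)) (odd_card_map (odd_coreIn S) _)
      (cj_normalizer_le g (le_normalizer_coreIn S))
  refine le_antisymm ?_ (key g S)
  have h := cj_mono g (key g⁻¹ (cj g S))
  simpa only [cj_cj, inv_mul_cancel, mul_inv_cancel, cj_one] using h

theorem cj_centralizer (g t : G) :
    cj g (Subgroup.centralizer {t}) = Subgroup.centralizer {g * t * g⁻¹} := by
  ext x
  rw [mem_cj, Subgroup.mem_centralizer_singleton_iff, Subgroup.mem_centralizer_singleton_iff]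
  constructor
  · intro h
    calc x * (g * t * g⁻¹) = g * (g⁻¹ * x * g * t) * g⁻¹ := by group
      _ = g * t * g⁻¹ * x := by rw [h]; group
  · intro h
    calc g⁻¹ * x * g * t = g⁻¹ * (x * (g * t * g⁻¹)) * g := by group
      _ = t * (g⁻¹ * x * g) := by rw [h]; group

theorem card_theta_of_isConj [Finite G] {s t : G} (h : IsConj s t) :
    Nat.card (theta s) = Nat.card (theta t) := by
  obtain ⟨g, rfl⟩ := isConj_iff.1 h
  rw [theta, theta, ← cj_centralizer, coreIn_cj, card_cj]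

theorem cent_le_cent {V : Subgroup G} {t : G} (ht : t ∈ V) :
    Subgroup.centralizer (V : Set G) ≤ Subgroup.centralizer {t} :=
  Subgroup.centralizer_le (Set.singleton_subset_iff.2 ht)

theorem centralizer_le_normalizer' (V : Subgroup G) :
    Subgroup.centralizer (V : Set G) ≤ Subgroup.normalizer (V : Set G) := by
  intro c hc
  rw [Subgroup.mem_normalizer_iff]
  intro x
  constructor
  · intro hx
    rwa [← Subgroup.mem_centralizer_iff.1 hc x hx, mul_inv_cancel_right]
  · intro hx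
    have h2 := Subgroup.mem_centralizer_iff.1 hc _ hx
    have h3 : c * x * c⁻¹ = x := by
      calc c * x * c⁻¹ = c⁻¹ * (c * (c * x * c⁻¹)) := by group
        _ = c⁻¹ * (c * x * c⁻¹ * c) := by rw [h2]
        _ = x := by group
    exact h3 ▸ hx

theorem exists_mul_pow {K : Subgroup G} {w : G} (hw : w ∈ Subgroup.normalizer (K : Set G)) {m : G}
    (hm : m ∈ K) : ∀ j : ℕ, ∃ m' ∈ K, (m * w) ^ j = m' * w ^ j := by
  intro j
  induction j with
  | zero => exact ⟨1, one_mem _, by simp⟩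
  | succ j ih =>
    obtain ⟨m', hm', e⟩ := ih
    refine ⟨m' * (w ^ j * m * (w ^ j)⁻¹), mul_mem hm'
      ((Subgroup.mem_normalizer_iff.1 (pow_mem hw j) m).1 hm), ?_⟩
    rw [pow_succ, e]
    group

/-- If `m w` has odd order, `m` in an odd order `K` normalised by the involution `w`, then `w ∈ K`. -/
theorem mem_of_odd_mul {K : Subgroup G} {w m : G} (hw : w ∈ Subgroup.normalizer (K : Set G))
    (hw2 : w * w = 1) (hm : m ∈ K) (hodd : Odd (orderOf (m * w))) : w ∈ K := by
  obtain ⟨j, hj⟩ := hodd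
  obtain ⟨m', hm', e⟩ := exists_mul_pow hw hm (2 * j + 1)
  rw [← hj, pow_orderOf_eq_one] at e
  rw [hj, pow_succ, pow_mul, pow_two, hw2, one_pow, one_mul] at e
  rw [eq_inv_of_mul_eq_one_right e.symm]
  exact inv_mem hm'

namespace Setup

variable {V : Subgroup G} (S : Setup V)
include S

theorem comm : ∀ a ∈ V, ∀ b ∈ V, a * b = b * a := comm_of_sq S.sq

theorem isP : IsPGroup 2 V := isPGroup_of_sq S.sq

theorem inv_eq {a : G} (ha : a ∈ V) : a⁻¹ = a := inv_eq_of_mul_eq_one_left (S.sq a ha)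

theorem le_cent {t : G} (ht : t ∈ V) : V ≤ Subgroup.centralizer {t} := fun x hx =>
  Subgroup.mem_centralizer_singleton_iff.2 (S.comm x hx t ht)

theorem le_centV : V ≤ Subgroup.centralizer (V : Set G) := fun x hx =>
  Subgroup.mem_centralizer_iff.2 fun y hy => S.comm y hy x hx

variable [Finite G]

theorem eq_top_of_normal (N : Subgroup G) [N.Normal] (hN : V ≤ N) : N = ⊤ := by
  by_contra h
  exact S.notNormal (normal_of_normal_overgroup S.isP S.cond S.core N hN (S.sub N hN h))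

theorem decomp {t x : G} (ht : t ∈ V) (ht1 : t ≠ 1) (hx : x ∈ Subgroup.centralizer {t}) :
    ∃ m ∈ theta t, m⁻¹ * x ∈ Subgroup.normalizer (V : Set G) := by
  refine exists_coreIn_mul (S.le_cent ht) (S.sub _ (S.le_cent ht) fun h => S.noCentral t ht ht1 ?_) hx
  exact Subgroup.mem_center_iff.2 fun g =>
    Subgroup.mem_centralizer_singleton_iff.1 (h ▸ Subgroup.mem_top g)

theorem eq_one_of_mem_theta {t w : G} (hw : w ∈ V) (h : w ∈ theta t) : w = 1 :=
  eq_one_of_mem S.isP (odd_coreIn _) hw h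

theorem normalizer_le_dCore :
    Subgroup.normalizer (V : Set G) ≤ Subgroup.normalizer (dCore V : Set G) := by
  intro n hn
  rw [← cj_eq_self_iff, dCore, ← coreIn_cj]
  congr 1
  ext x
  rw [mem_cj, Subgroup.mem_centralizer_iff, Subgroup.mem_centralizer_iff]
  constructor
  · intro h v hv
    have hv' : n⁻¹ * v * n ∈ (V : Set G) := by
      simpa using (Subgroup.mem_normalizer_iff.1 (inv_mem hn) v).1 hv
    calc v * x = n * (n⁻¹ * v * n * (n⁻¹ * x * n)) * n⁻¹ := by group
      _ = x * v := by rw [h _ hv']; group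
  · intro h v hv
    have hv' : n * v * n⁻¹ ∈ (V : Set G) := (Subgroup.mem_normalizer_iff.1 hn v).1 hv
    calc v * (n⁻¹ * x * n) = n⁻¹ * (n * v * n⁻¹ * x) * n := by group
      _ = n⁻¹ * x * n * v := by rw [h _ hv']; group

theorem theta_inf_normalizer {t : G} (ht : t ∈ V) :
    theta t ⊓ Subgroup.normalizer (V : Set G) ≤ dCore V := by
  have hle : theta t ⊓ Subgroup.normalizer (V : Set G) ≤ Subgroup.centralizer (V : Set G) := by
    intro x hx
    refine Subgroup.mem_centralizer_iff.2 fun v hv => (mul_inv_eq_one.1 ?_).symm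
    rw [mul_inv_rev, ← mul_assoc]
    refine S.eq_one_of_mem_theta (mul_mem ((Subgroup.mem_normalizer_iff.1 hx.2 v).1 hv) (inv_mem hv))
      (t := t) ?_
    rw [show x * v * x⁻¹ * v⁻¹ = x * (v * x⁻¹ * v⁻¹) by group]
    exact mul_mem hx.1 ((Subgroup.mem_normalizer_iff.1
      (le_normalizer_coreIn _ (S.le_cent ht hv)) _).1 (inv_mem hx.1))
  refine le_coreIn hle (odd_card_of_le inf_le_left (odd_coreIn _)) fun c hc => ?_
  rw [Subgroup.mem_normalizer_iff]
  intro y
  exact and_congr (Subgroup.mem_normalizer_iff.1 (le_normalizer_coreIn _ (cent_le_cent ht hc)) y)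
    (Subgroup.mem_normalizer_iff.1 (Subgroup.le_normalizer (centralizer_le_normalizer' V hc)) y)

theorem dCore_le_theta {t : G} (ht : t ∈ V) (ht1 : t ≠ 1) : dCore V ≤ theta t := by
  have hDC : dCore V ≤ Subgroup.centralizer {t} := (coreIn_le _).trans (cent_le_cent ht)
  have hDn : dCore V ≤ Subgroup.normalizer (theta t : Set G) :=
    hDC.trans (le_normalizer_coreIn _)
  refine le_sup_right.trans (le_coreIn (X := theta t ⊔ dCore V) (sup_le (coreIn_le _) hDC)
    (odd_card_sup hDn (odd_coreIn _) (odd_coreIn _)) fun c hc => ?_)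
  obtain ⟨m, hm, hn⟩ := S.decomp ht ht1 hc
  have hnC : m⁻¹ * c ∈ Subgroup.centralizer {t} := mul_mem (inv_mem (coreIn_le _ hm)) hc
  rw [show c = m * (m⁻¹ * c) by group]
  exact mul_mem (Subgroup.le_normalizer (le_sup_left (b := dCore V) hm))
    (Subgroup.normalizer_inf_normalizer_le_normalizer_sup _ _
      ⟨le_normalizer_coreIn _ hnC, S.normalizer_le_dCore hn⟩)

/-- An element of `C(t)` with all commutators with `V` of odd order lies in `θ_t C(V)`. -/
theorem exists_theta_mul {t x : G} (ht : t ∈ V) (ht1 : t ≠ 1) (hx : x ∈ Subgroup.centralizer {t})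
    (hodd : ∀ v ∈ V, Odd (orderOf (v * x * v⁻¹ * x⁻¹))) :
    ∃ m ∈ theta t, m⁻¹ * x ∈ Subgroup.centralizer (V : Set G) := by
  obtain ⟨m, hm, hn⟩ := S.decomp ht ht1 hx
  refine ⟨m, hm, Subgroup.mem_centralizer_iff.2 fun v hv => ?_⟩
  set n := m⁻¹ * x with hndef
  set w := v * n * v⁻¹ * n⁻¹ with hw
  have hwV : w ∈ V := by
    rw [hw, show v * n * v⁻¹ * n⁻¹ = v * (n * v⁻¹ * n⁻¹) by group]
    exact mul_mem hv ((Subgroup.mem_normalizer_iff.1 hn _).1 (inv_mem hv))
  have hvθ := le_normalizer_coreIn _ (S.le_cent ht hv)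
  have hwθ := le_normalizer_coreIn _ (S.le_cent ht hwV)
  have he : v * x * v⁻¹ * x⁻¹ = (v * m * v⁻¹ * (w * m⁻¹ * w⁻¹)) * w := by
    rw [hw, hndef]; group
  have hmw : w ∈ theta t := mem_of_odd_mul hwθ (S.sq w hwV)
    (mul_mem ((Subgroup.mem_normalizer_iff.1 hvθ m).1 hm)
      ((Subgroup.mem_normalizer_iff.1 hwθ _).1 (inv_mem hm))) (he ▸ hodd v hv)
  have hw1 := S.eq_one_of_mem_theta hwV hmw
  rw [hw, mul_inv_eq_one, mul_inv_eq_iff_eq_mul] at hw1
  exact hw1

/-- Balance. -/
theorem balance {a b x : G} (ha : a ∈ V) (hb : b ∈ V) (hb1 : b ≠ 1) (hxa : x ∈ theta a)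
    (hxb : x ∈ Subgroup.centralizer {b}) : x ∈ theta b := by
  set T := theta a ⊓ Subgroup.centralizer {b} with hT
  obtain ⟨m, hm, hn⟩ := S.exists_theta_mul hb hb1 hxb fun v hv => by
    refine odd_orderOf_of_mem (odd_coreIn (Subgroup.centralizer {a})) ?_
    exact mul_mem ((Subgroup.mem_normalizer_iff.1 (le_normalizer_coreIn _ (S.le_cent ha hv)) x).1 hxa)
      (inv_mem hxa)
  have hTn : T ≤ Subgroup.normalizer (theta b : Set G) :=
    inf_le_right.trans (le_normalizer_coreIn _)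
  have hQ : Odd (Nat.card ↥(theta b ⊔ T)) :=
    odd_card_sup hTn (odd_card_of_le inf_le_left (odd_coreIn _)) (odd_coreIn _)
  have hD : (theta b ⊔ T) ⊓ Subgroup.centralizer (V : Set G) ≤ dCore V := by
    refine le_coreIn inf_le_right (odd_card_of_le inf_le_left hQ) fun c hc => ?_
    have hcT : c ∈ Subgroup.normalizer (T : Set G) := by
      rw [Subgroup.mem_normalizer_iff]
      intro y
      exact and_congr
        (Subgroup.mem_normalizer_iff.1 (le_normalizer_coreIn _ (cent_le_cent ha hc)) y)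
        (Subgroup.mem_normalizer_iff.1 (Subgroup.le_normalizer (cent_le_cent hb hc)) y)
    have hcs := Subgroup.normalizer_inf_normalizer_le_normalizer_sup (theta b) T
      ⟨le_normalizer_coreIn _ (cent_le_cent hb hc), hcT⟩
    rw [Subgroup.mem_normalizer_iff]
    intro y
    exact and_congr (Subgroup.mem_normalizer_iff.1 hcs y)
      (Subgroup.mem_normalizer_iff.1 (Subgroup.le_normalizer hc) y)
  have h1 : m⁻¹ * x ∈ theta b := S.dCore_le_theta hb hb1 (hD
    ⟨mul_mem (Subgroup.mem_sup_left (inv_mem hm)) (Subgroup.mem_sup_right ⟨hxa, hxb⟩), hn⟩)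
  simpa using mul_mem hm h1

theorem mul_ne_one {a b : G} (hb : b ∈ V) (hab : a ≠ b) : a * b ≠ 1 := fun h => hab (by
  rw [eq_inv_of_mul_eq_one_left h, S.inv_eq hb])

/-- For a four-group `a, b, ab` the three intersections agree. -/
theorem theta_inf {a b : G} (ha : a ∈ V) (hb : b ∈ V) (hb1 : b ≠ 1) (hab : a ≠ b) :
    theta a ⊓ theta b = theta a ⊓ theta (a * b) := by
  ext x
  constructor
  · rintro ⟨hxa, hxb⟩
    refine ⟨hxa, S.balance ha (mul_mem ha hb) (S.mul_ne_one hb hab) hxa ?_⟩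
    have h1 : x * a = a * x := Subgroup.mem_centralizer_singleton_iff.1 (coreIn_le _ hxa)
    have h2 : x * b = b * x := Subgroup.mem_centralizer_singleton_iff.1 (coreIn_le _ hxb)
    exact Subgroup.mem_centralizer_singleton_iff.2 ((show Commute x a from h1).mul_right h2).eq
  · rintro ⟨hxa, hxz⟩
    refine ⟨hxa, S.balance ha hb hb1 hxa ?_⟩
    have h1 : x * a = a * x := Subgroup.mem_centralizer_singleton_iff.1 (coreIn_le _ hxa)
    have h2 : x * (a * b) = a * b * x := Subgroup.mem_centralizer_singleton_iff.1 (coreIn_le _ hxz)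
    refine Subgroup.mem_centralizer_singleton_iff.2 ?_
    calc x * b = a⁻¹ * (a * x) * b := by group
      _ = a⁻¹ * (x * (a * b)) := by rw [← h1]; group
      _ = b * x := by rw [h2]; group

theorem theta_inf_cent {a b : G} (ha : a ∈ V) (hb : b ∈ V) (hb1 : b ≠ 1) :
    theta a ⊓ Subgroup.centralizer {b} = theta a ⊓ theta b :=
  le_antisymm (fun _ hx => ⟨hx.1, S.balance ha hb hb1 hx.1 hx.2⟩)
    (inf_le_inf_left _ (coreIn_le _))

/-- Every conjugate of `V` comes from `θ_a θ_b θ_ab`. -/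
theorem exists_triple {a b : G} (ha : a ∈ V) (hb : b ∈ V) (ha1 : a ≠ 1) (hb1 : b ≠ 1)
    (hab : a ≠ b) (g : G) :
    ∃ p ∈ theta a, ∃ q ∈ theta b, ∃ r ∈ theta (a * b),
      (p * q * r)⁻¹ * g ∈ Subgroup.normalizer (V : Set G) := by
  obtain ⟨K, -, hK2, hK3, hK4⟩ := S.cond g
  have hVK : V ≤ Subgroup.normalizer (K : Set G) := le_sup_left.trans hK3
  obtain ⟨k, hk, he⟩ := exists_conj_of_le_sup (H' := cj g V) S.isP (S.isP.map _) hK2 hVK hK4
    (card_cj g V)
  have hn : ∀ v ∈ V, ∀ x ∈ K, v * x * v⁻¹ ∈ K := fun v hv x hx =>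
    (Subgroup.mem_normalizer_iff.1 (hVK hv) x).1 hx
  obtain ⟨x₁, hx1, c1, x₂, hx2, c2, x₃, hx3, c3, rfl⟩ := four_product hK2 (S.sq a ha) (S.sq b hb)
    (S.comm a ha b hb) (hn a ha) (hn b hb) hk
  have key : ∀ t ∈ V, t ≠ 1 → ∀ x ∈ K, Commute t x →
      ∃ m ∈ theta t, m⁻¹ * x ∈ Subgroup.centralizer (V : Set G) := fun t ht ht1 x hx hc =>
    S.exists_theta_mul ht ht1 (Subgroup.mem_centralizer_singleton_iff.2 hc.symm.eq) fun v hv =>
      odd_orderOf_of_mem hK2 (mul_mem (hn v hv x hx) (inv_mem hx))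
  obtain ⟨m₁, hm1, n1⟩ := key a ha ha1 x₁ hx1 c1
  obtain ⟨m₂, hm2, n2⟩ := key b hb hb1 x₂ hx2 c2
  obtain ⟨m₃, hm3, n3⟩ := key (a * b) (mul_mem ha hb) (S.mul_ne_one hb hab) x₃ hx3 c3
  refine ⟨m₁, hm1, (m₁⁻¹ * x₁) * m₂ * (m₁⁻¹ * x₁)⁻¹,
    (Subgroup.mem_normalizer_iff.1 (le_normalizer_coreIn _ (cent_le_cent hb n1)) m₂).1 hm2,
    (m₁⁻¹ * x₁ * (m₂⁻¹ * x₂)) * m₃ * (m₁⁻¹ * x₁ * (m₂⁻¹ * x₂))⁻¹,
    (Subgroup.mem_normalizer_iff.1
      (le_normalizer_coreIn _ (cent_le_cent (mul_mem ha hb) (mul_mem n1 n2))) m₃).1 hm3, ?_⟩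
  set k := x₁ * x₂ * x₃ with hk'
  have h1 : k⁻¹ * g ∈ Subgroup.normalizer (V : Set G) := by
    rw [← cj_eq_self_iff, ← cj_cj, ← he, cj_cj, inv_mul_cancel, cj_one]
  have hc := centralizer_le_normalizer' V (mul_mem (mul_mem n1 n2) n3)
  have := mul_mem hc h1
  convert this using 1
  rw [hk']
  group

/-- The bound for the index of the normaliser. -/
theorem index_le {a b : G} (ha : a ∈ V) (hb : b ∈ V) (ha1 : a ≠ 1) (hb1 : b ≠ 1)
    (hab : a ≠ b) :
    (Subgroup.normalizer (V : Set G)).index * (Nat.card ↥(theta a ⊓ theta b) *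
        Nat.card ↥(theta a ⊓ theta b) * Nat.card (dCore V)) ≤
      Nat.card (theta a) * Nat.card (theta b) * Nat.card (theta (a * b)) := by
  classical
  set N := Subgroup.normalizer (V : Set G) with hN
  choose p hp q hq r hr hn using fun g : G => S.exists_triple ha hb ha1 hb1 hab g
  have hz1 := S.mul_ne_one hb hab
  set z := a * b with hz
  have hAz : theta a ⊓ theta b ≤ theta z := (S.theta_inf ha hb hb1 hab).trans_le inf_le_right
  have hDz : dCore V ≤ theta z := S.dCore_le_theta (mul_mem ha hb) hz1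
  let Φ : (G ⧸ N) × (↥(theta a ⊓ theta b) × ↥(theta a ⊓ theta b) × ↥(dCore V)) →
      ↥(theta a) × ↥(theta b) × ↥(theta z) := fun x =>
    (⟨p x.1.out * x.2.1.1, (theta a).mul_mem (hp _) x.2.1.2.1⟩,
      ⟨x.2.1.1⁻¹ * q x.1.out * x.2.2.1.1,
        (theta b).mul_mem ((theta b).mul_mem ((theta b).inv_mem x.2.1.2.2) (hq _)) x.2.2.1.2.2⟩,
      ⟨x.2.2.1.1⁻¹ * r x.1.out * x.2.2.2.1,
        (theta z).mul_mem ((theta z).mul_mem ((theta z).inv_mem (hAz x.2.2.1.2)) (hr _))
          (hDz x.2.2.2.2)⟩)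
  have hΦ : Function.Injective Φ := by
    rintro ⟨g, c, e, d⟩ ⟨g', c', e', d'⟩ h
    have h1 : p g.out * c.1 = p g'.out * c'.1 := congrArg Subtype.val (congrArg Prod.fst h)
    have h2 : c.1⁻¹ * q g.out * e.1 = c'.1⁻¹ * q g'.out * e'.1 :=
      congrArg Subtype.val (congrArg (fun z => z.2.1) h)
    have h3 : e.1⁻¹ * r g.out * d.1 = e'.1⁻¹ * r g'.out * d'.1 :=
      congrArg Subtype.val (congrArg (fun z => z.2.2) h)
    have key : ∀ (g : G ⧸ N) (c e : ↥(theta a ⊓ theta b)) (d : ↥(dCore V)),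
        QuotientGroup.mk (p g.out * c.1 * (c.1⁻¹ * q g.out * e.1) * (e.1⁻¹ * r g.out * d.1)) = g := by
      intro g c e d
      conv_rhs => rw [← g.out_eq]
      refine QuotientGroup.eq.2 ?_
      have h4 := N.mul_mem (N.inv_mem (centralizer_le_normalizer' V (coreIn_le _ d.2))) (hn g.out)
      convert h4 using 1
      group
    have hg : g = g' := by
      rw [← key g c e d, ← key g' c' e' d', h1, h2, h3]
    subst hg
    have hc : c = c' := Subtype.ext (mul_left_cancel h1)
    subst hc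
    have he : e = e' := Subtype.ext (mul_left_cancel h2)
    subst he
    exact Prod.ext rfl (Prod.ext rfl (Prod.ext rfl (Subtype.ext (mul_left_cancel h3))))
  have := Nat.card_le_card_of_injective Φ hΦ
  simp only [Nat.card_prod] at this
  rw [Subgroup.index_eq_card, mul_assoc (Nat.card (theta a)), mul_assoc (Nat.card ↥(theta a ⊓ theta b))]
  exact this

/-- The order of the centraliser of an element of `V`. -/
theorem card_cent {t : G} (ht : t ∈ V) (ht1 : t ≠ 1) :
    Nat.card (Subgroup.centralizer ({t} : Set G)) * Nat.card (dCore V) =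
      Nat.card ↥(Subgroup.normalizer (V : Set G) ⊓ Subgroup.centralizer {t}) * Nat.card (theta t) := by
  classical
  set N := Subgroup.normalizer (V : Set G)
  set C := Subgroup.centralizer ({t} : Set G) with hC
  have hdec : ∀ x : C, ∃ n : ↥(N ⊓ C), (n : G)⁻¹ * (x : G) ∈ theta t := fun x => by
    obtain ⟨m, hm, hn⟩ := S.decomp ht ht1 x.2
    have hnC : m⁻¹ * (x : G) ∈ C := C.mul_mem (C.inv_mem (coreIn_le _ hm)) x.2
    refine ⟨⟨_, hn, hnC⟩, ?_⟩
    have h2 := (Subgroup.mem_normalizer_iff.1 (le_normalizer_coreIn _ (C.inv_mem hnC)) m).1 hm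
    convert h2 using 1
    push_cast
    group
  choose σ hσ using hdec
  have hDN : ∀ d : ↥(dCore V), (d : G) ∈ N ⊓ C := fun d =>
    ⟨centralizer_le_normalizer' V (coreIn_le _ d.2), cent_le_cent ht (coreIn_le _ d.2)⟩
  rw [← Nat.card_prod, ← Nat.card_prod]
  refine Nat.card_congr (Equiv.ofBijective (fun xd => (⟨(σ xd.1 : G) * xd.2, (N ⊓ C).mul_mem (σ xd.1).2
    (hDN xd.2)⟩, ⟨(xd.2 : G)⁻¹ * ((σ xd.1 : G)⁻¹ * xd.1),
      (theta t).mul_mem ((theta t).inv_mem (S.dCore_le_theta ht ht1 xd.2.2)) (hσ xd.1)⟩)) ⟨?_, ?_⟩)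
  · rintro ⟨x, d⟩ ⟨x', d'⟩ h
    have h1 : (σ x : G) * d = (σ x' : G) * d' := congrArg Subtype.val (congrArg Prod.fst h)
    have h2 : (d : G)⁻¹ * ((σ x : G)⁻¹ * x) = (d' : G)⁻¹ * ((σ x' : G)⁻¹ * x') :=
      congrArg Subtype.val (congrArg Prod.snd h)
    rw [← mul_assoc, ← mul_assoc, ← mul_inv_rev, ← mul_inv_rev, h1] at h2
    have hx : x = x' := Subtype.ext (mul_left_cancel h2)
    subst hx
    exact Prod.ext rfl (Subtype.ext (mul_left_cancel h1))
  · rintro ⟨n, m⟩
    set x : C := ⟨(n : G) * m, C.mul_mem n.2.2 (coreIn_le _ m.2)⟩ with hx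
    have hd : (σ x : G)⁻¹ * n ∈ dCore V := by
      refine S.theta_inf_normalizer ht ⟨?_, N.mul_mem (N.inv_mem (σ x).2.1) n.2.1⟩
      have h2 := (theta t).mul_mem (hσ x) ((theta t).inv_mem m.2)
      simpa [hx, mul_assoc] using h2
    refine ⟨(x, ⟨_, hd⟩), Prod.ext (Subtype.ext ?_) (Subtype.ext ?_)⟩
    · simp
    · show ((σ x : G)⁻¹ * n)⁻¹ * ((σ x : G)⁻¹ * ((n : G) * m)) = m
      group

/-- The conjugates of `t` in `V`, as a number. -/
theorem card_orbit {t : G} (ht : t ∈ V) :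
    Nat.card {v : G // v ∈ V ∧ IsConj t v} *
        Nat.card ↥(Subgroup.normalizer (V : Set G) ⊓ Subgroup.centralizer {t}) =
      Nat.card ↥(Subgroup.normalizer (V : Set G)) := by
  classical
  set N := Subgroup.normalizer (V : Set G)
  set C := Subgroup.centralizer ({t} : Set G)
  let f : N → {v : G // v ∈ V ∧ IsConj t v} := fun n =>
    ⟨(n : G) * t * (n : G)⁻¹, (Subgroup.mem_normalizer_iff.1 n.2 t).1 ht, isConj_iff.2 ⟨n, rfl⟩⟩
  have hf : ∀ a b : N, a⁻¹ * b ∈ C.subgroupOf N ↔ f a = f b := by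
    intro a b
    rw [Subgroup.mem_subgroupOf, Subgroup.mem_centralizer_singleton_iff, Subtype.ext_iff]
    push_cast
    show (a : G)⁻¹ * b * t = t * ((a : G)⁻¹ * b) ↔ (a : G) * t * (a : G)⁻¹ = b * t * (b : G)⁻¹
    constructor
    · intro h
      calc (a : G) * t * (a : G)⁻¹ = a * (t * ((a : G)⁻¹ * b)) * (b : G)⁻¹ := by group
        _ = b * t * (b : G)⁻¹ := by rw [← h]; group
    · intro h
      calc (a : G)⁻¹ * b * t = (a : G)⁻¹ * (b * t * (b : G)⁻¹) * b := by group
        _ = t * ((a : G)⁻¹ * b) := by rw [← h]; group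
  let F : N ⧸ C.subgroupOf N → {v : G // v ∈ V ∧ IsConj t v} :=
    Quotient.lift f fun a b h => (hf a b).1 (QuotientGroup.leftRel_apply.1 h)
  have hF : Function.Bijective F := by
    constructor
    · intro x y
      induction x using QuotientGroup.induction_on with
      | _ a =>
      induction y using QuotientGroup.induction_on with
      | _ b => exact fun h => QuotientGroup.eq.2 ((hf a b).2 h)
    · rintro ⟨v, hv, hc⟩
      obtain ⟨g, hg⟩ := isConj_iff.1 hc
      obtain ⟨n, hn, he⟩ := exists_normalizer_conj S.isP S.comm S.cond ht (g := g) (hg ▸ hv)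
      exact ⟨QuotientGroup.mk (⟨n, hn⟩ : N), Subtype.ext (he.trans hg)⟩
  rw [← Nat.card_eq_of_bijective F hF, ← Subgroup.card_mul_index (C.subgroupOf N),
    Subgroup.index_eq_card, mul_comm]
  congr 1
  refine Nat.card_congr ⟨fun x => ⟨⟨x.1, x.2.1⟩, x.2.2⟩, fun x => ⟨x.1.1, x.1.2, x.2⟩, ?_, ?_⟩
  · exact fun _ => rfl
  · exact fun _ => rfl

/-- No element of `V` is fixed by the whole normaliser. -/
theorem exists_not_fixed {t : G} (ht : t ∈ V) (ht1 : t ≠ 1) :
    ∃ n ∈ Subgroup.normalizer (V : Set G), n * t * n⁻¹ ≠ t := by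
  by_contra hne
  push Not at hne
  have htt := S.sq t ht
  have hiso : Cfsg.IsIsolatedInvolution t := by
    refine ⟨H66.orderOf_two_of_sq ht1 htt, fun g hg => ?_⟩
    set s := g * t * g⁻¹ with hs
    obtain ⟨c, hc, hcs⟩ := exists_cj_le_normalizer (T := Subgroup.zpowers s) S.isP S.cond
      (S.le_cent ht) (IsPGroup.of_card (n := 1) (by
        rw [Nat.card_zpowers, hs, ← MulAut.conj_apply, MulEquiv.orderOf_eq,
          H66.orderOf_two_of_sq ht1 htt, pow_one]))
      (Subgroup.zpowers_le.2 (Subgroup.mem_centralizer_singleton_iff.2 hg.symm.eq))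
    have h1 : c * g * t * (c * g)⁻¹ ∈ Subgroup.normalizer (V : Set G) := by
      refine hcs (mem_cj.2 ?_)
      rw [show c⁻¹ * (c * g * t * (c * g)⁻¹) * c = s by rw [hs]; group]
      exact Subgroup.mem_zpowers s
    obtain ⟨n, hn, he⟩ := exists_normalizer_conj S.isP S.comm S.cond ht
      (conj_mem_of_normalizer S.isP S.cond ht h1)
    rw [hne n hn] at he
    have hc' : c * t = t * c := Subgroup.mem_centralizer_singleton_iff.1 hc
    calc s = c⁻¹ * (c * g * t * (c * g)⁻¹) * c := by rw [hs]; group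
      _ = t := by rw [← he, mul_assoc, ← hc', inv_mul_cancel_left]
  have hz := H85.zStar hiso
  refine S.noCentral t ht ht1 (Subgroup.mem_center_iff.2 fun g => ?_)
  have h1 := hz g
  rw [S.core, Subgroup.mem_bot, mul_inv_eq_one, mul_inv_eq_iff_eq_mul] at h1
  exact h1.symm

/-- Every orbit of the normaliser on the involutions of `V` has at least three elements. -/
theorem three_le_orbit {t : G} (ht : t ∈ V) (ht1 : t ≠ 1) :
    3 ≤ Nat.card {v : G // v ∈ V ∧ IsConj t v} := by
  classical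
  set O := {v : G // v ∈ V ∧ IsConj t v}
  by_contra hlt
  obtain ⟨n, hn, hne⟩ := S.exists_not_fixed ht ht1
  set s := n * t * n⁻¹ with hs
  have hsV : s ∈ V := (Subgroup.mem_normalizer_iff.1 hn t).1 ht
  have hcov : ∀ v : G, v ∈ V → IsConj t v → v = t ∨ v = s := by
    intro v hv hc
    by_contra h
    push Not at h
    apply hlt
    let f : Fin 3 → O := ![⟨t, ht, IsConj.refl t⟩, ⟨s, hsV, isConj_iff.2 ⟨n, rfl⟩⟩, ⟨v, hv, hc⟩]
    have hf : Function.Injective f := by
      intro i j hij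
      fin_cases i <;> fin_cases j <;> simp [f] at hij ⊢
      all_goals replace hij := congrArg Subtype.val hij
      all_goals first
        | exact hne hij
        | exact hne hij.symm
        | exact h.1 hij
        | exact h.1 hij.symm
        | exact h.2 hij
        | exact h.2 hij.symm
    simpa using Nat.card_le_card_of_injective f hf
  obtain ⟨m, hm, hmne⟩ := S.exists_not_fixed (mul_mem ht hsV)
    (S.mul_ne_one hsV (fun h => hne h.symm))
  refine hmne ?_
  have e1 := hcov (m * t * m⁻¹) ((Subgroup.mem_normalizer_iff.1 hm t).1 ht) (isConj_iff.2 ⟨m, rfl⟩)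
  have e2 := hcov (m * s * m⁻¹) ((Subgroup.mem_normalizer_iff.1 hm s).1 hsV)
    (isConj_iff.2 ⟨m * n, by rw [hs]; group⟩)
  have hinj : m * t * m⁻¹ ≠ m * s * m⁻¹ := fun h =>
    hne (mul_left_cancel (mul_right_cancel h)).symm
  rw [show m * (t * s) * m⁻¹ = (m * t * m⁻¹) * (m * s * m⁻¹) by group]
  rcases e1 with e1 | e1 <;> rcases e2 with e2 | e2
  · exact absurd (e1.trans e2.symm) hinj
  · rw [e1, e2]
  · rw [e1, e2, S.comm s hsV t ht]
  · exact absurd (e1.trans e2.symm) hinj

end Setup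

end H68.EC
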