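import Cfsg.Agent.H68.ExtClosed.Contra
import Mathlib.GroupTheory.Transfer

/-!
`G = N(H) O(G)` for an abelian `2`-subgroup with the condition `Cond`; extremely closed abelian
`2`-subgroups satisfy it.
-/

set_option autoImplicit false
set_option linter.style.haveILetI false

namespace H68.EC

open H70

universe u

theorem card_quotient_lt {G : Type u} [Group G] [Finite G] (N : Subgroup G) [N.Normal]
    (hN : N ≠ ⊥) : Nat.card (G ⧸ N) < Nat.card G := by
  rw [Subgroup.card_eq_card_quotient_mul_card_subgroup N]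
  exact lt_mul_of_one_lt_right Nat.card_pos (Subgroup.one_lt_card_iff_ne_bot _ |>.2 hN)

theorem card_subgroup_lt {G : Type u} [Group G] [Finite G] (S : Subgroup G) (hS : S ≠ ⊤) :
    Nat.card S < Nat.card G :=
  Nat.lt_of_le_of_ne (Subgroup.card_le_card_group S) fun h => hS (Subgroup.eq_top_of_card_eq S h)

/-- The elementary abelian case. -/
theorem factorises_elementary : ∀ (n : ℕ) (G : Type u) [Group G] [Finite G], Nat.card G = n →
    ∀ V : Subgroup G, (∀ a ∈ V, a * a = 1) → Cond V → Factorises V := by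
  intro n
  induction n using Nat.strong_induction_on with
  | _ n ih =>
  intro G _ _ hn V hsq hc
  subst hn
  have hP := isPGroup_of_sq hsq
  haveI hOn := H1.pPrimeCore_normal' 2 G
  by_cases hO : Cfsg.pPrimeCore 2 G = ⊥
  swap
  · exact factorises_of_quotient hP _ odd_pPrimeCore
      (ih _ (card_quotient_lt _ hO) _ rfl _ (sq_map hsq _)
        (hc.map (QuotientGroup.mk'_surjective _)))
  by_cases hV : V.Normal
  · exact factorises_of_normal hV
  exfalso
  haveI := Fintype.ofFinite G
  refine Setup.false (V := V) ⟨hsq, hc, hO, hV, fun t ht ht1 hcen => hV ?_, fun S hS hS1 => ?_⟩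
  · haveI := H85.exists_zpowers_normal hcen
    have ht2 : orderOf t = 2 := H66.orderOf_two_of_sq ht1 (hsq t ht)
    exact normal_of_central_involution hP hc hO ht2 hcen
      (ih _ (card_quotient_lt _ (by rwa [Ne, Subgroup.zpowers_eq_bot])) _ rfl _ (sq_map hsq _)
        (hc.map (QuotientGroup.mk'_surjective _)))
  · exact ih _ (card_subgroup_lt S hS1) S rfl _ (fun a ha => Subtype.ext (hsq a ha))
      (hc.subgroupOf hS)

/-- The elements of order at most two of an abelian subgroup. -/
def omegaOne {G : Type u} [Group G] (H : Subgroup G) (hab : ∀ a ∈ H, ∀ b ∈ H, a * b = b * a) :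
    Subgroup G where
  carrier := {a | a ∈ H ∧ a * a = 1}
  one_mem' := ⟨one_mem _, one_mul 1⟩
  mul_mem' := fun {a b} ha hb => ⟨mul_mem ha.1 hb.1, by
    rw [mul_assoc, ← mul_assoc b a, hab b hb.1 a ha.1, mul_assoc a b, hb.2, mul_one, ha.2]⟩
  inv_mem' := fun {a} ha => ⟨inv_mem ha.1, by rw [← mul_inv_rev, ha.2, inv_one]⟩

theorem cond_omegaOne {G : Type u} [Group G] [Finite G] {H : Subgroup G}
    (hab : ∀ a ∈ H, ∀ b ∈ H, a * b = b * a) (hP : IsPGroup 2 H) (hc : Cond H) :
    Cond (omegaOne H hab) := by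
  intro g
  obtain ⟨K, -, hK2, hK3, hK4⟩ := hc g
  set V := omegaOne H hab with hV
  have hVH : V ≤ H := fun a ha => ha.1
  have hL : V ⊔ cj g V ≤ H ⊔ cj g H := sup_le_sup hVH (cj_mono g hVH)
  refine ⟨K ⊓ (V ⊔ cj g V), inf_le_right, odd_card_of_le inf_le_left hK2, fun l hl => ?_,
    fun s hs => ?_⟩
  · rw [Subgroup.mem_normalizer_iff]
    intro y
    exact and_congr (Subgroup.mem_normalizer_iff.1 (hK3 (hL hl)) y)
      (Subgroup.mem_normalizer_iff.1 (Subgroup.le_normalizer hl) y)
  · have hHK : H ≤ Subgroup.normalizer (K : Set G) := le_sup_left.trans hK3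
    obtain ⟨k, hk, h, hh, e⟩ := exists_mul_of_mem_sup hHK (hK4 (cj_mono g hVH hs))
    have hs2 : s * s = 1 := by
      have h1 := (mem_cj.1 hs).2
      calc s * s = g * (g⁻¹ * s * g * (g⁻¹ * s * g)) * g⁻¹ := by group
        _ = 1 := by rw [h1, mul_one, mul_inv_cancel]
    have hh2 : h * h = 1 := by
      refine eq_one_of_mem hP hK2 (mul_mem hh hh) ?_
      have h3 : k * h * (k * h) = 1 := by rw [← e]; exact hs2
      have h4 : h * h = h * k⁻¹ * h⁻¹ * k⁻¹ := by
        calc h * h = h * k⁻¹ * h⁻¹ * k⁻¹ * (k * h * (k * h)) := by group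
          _ = _ := by rw [h3, mul_one]
      rw [h4]
      exact mul_mem ((Subgroup.mem_normalizer_iff.1 (hHK hh) _).1 (inv_mem hk)) (inv_mem hk)
    have hhV : h ∈ V := ⟨hh, hh2⟩
    have hkL : k ∈ V ⊔ cj g V := by
      rw [show k = s * h⁻¹ by rw [e, mul_inv_cancel_right]]
      exact mul_mem (Subgroup.mem_sup_right hs) (Subgroup.mem_sup_left (inv_mem hhV))
    rw [e]
    exact Subgroup.mul_mem_sup ⟨hk, hkL⟩ hhV

/-- The abelian case. -/
theorem factorises_abelian : ∀ (n : ℕ) (G : Type u) [Group G] [Finite G], Nat.card G = n →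
    ∀ H : Subgroup G, IsPGroup 2 H → (∀ a ∈ H, ∀ b ∈ H, a * b = b * a) → Cond H →
      Factorises H := by
  intro n
  induction n using Nat.strong_induction_on with
  | _ n ih =>
  intro G _ _ hn H hP hab hc
  subst hn
  haveI : Fact (Nat.Prime 2) := ⟨Nat.prime_two⟩
  haveI hOn := H1.pPrimeCore_normal' 2 G
  by_cases hO : Cfsg.pPrimeCore 2 G = ⊥
  swap
  · exact factorises_of_quotient hP _ odd_pPrimeCore
      (ih _ (card_quotient_lt _ hO) _ rfl _ (hP.map _) (comm_map hab _)
        (hc.map (QuotientGroup.mk'_surjective _)))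
  by_cases hH : H.Normal
  · exact factorises_of_normal hH
  exfalso
  apply hH
  -- an involution of `H`
  obtain ⟨a, ha, ha1⟩ : ∃ a ∈ H, a ≠ 1 := by
    by_contra h
    push Not at h
    refine hH ?_
    rw [(Subgroup.eq_bot_iff_forall H).2 h]
    infer_instance
  obtain ⟨z, hzH, hz2⟩ : ∃ z ∈ H, orderOf z = 2 := by
    have hd : 2 ∣ Nat.card H := by
      obtain ⟨k, hk⟩ := hP.exists_card_eq
      rw [hk]
      refine dvd_pow_self 2 fun h => ha1 ?_
      rw [h, pow_zero, Subgroup.card_eq_one] at hk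
      rwa [hk, Subgroup.mem_bot] at ha
    obtain ⟨x, hx⟩ := exists_prime_orderOf_dvd_card' 2 hd
    exact ⟨x, x.2, by rw [Subgroup.orderOf_coe]; exact hx⟩
  set V := omegaOne H hab with hV
  have hzV : z ∈ V := ⟨hzH, H66.mul_self_of_orderOf_two hz2⟩
  have hVn : V.Normal := by
    refine normal_of_forall_cj fun g => ?_
    obtain ⟨m, hm, hn⟩ := factorises_elementary _ G rfl V (fun a ha => ha.2)
      (cond_omegaOne hab hP hc) g
    rw [hO, Subgroup.mem_bot] at hm
    rw [hm, inv_one, one_mul] at hn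
    exact cj_eq_self_iff.2 hn
  by_cases hN : Subgroup.normalClosure (H : Set G) = ⊤
  swap
  · exact normal_of_normal_overgroup hP hc hO _ Subgroup.subset_normalClosure
      (ih _ (card_subgroup_lt _ hN) _ rfl _ (isPGroup_subgroupOf hP Subgroup.subset_normalClosure)
        (comm_subgroupOf hab) (hc.subgroupOf Subgroup.subset_normalClosure))
  -- `V` is central
  have hcen : z ∈ Subgroup.center G := by
    have h1 : Subgroup.normalClosure (H : Set G) ≤ Subgroup.centralizer (V : Set G) := by
      refine Subgroup.normalClosure_le_normal fun x hx => Subgroup.mem_centralizer_iff.2 fun v hv => ?_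
      exact hab v hv.1 x hx
    rw [hN] at h1
    exact Subgroup.mem_center_iff.2 fun g =>
      (Subgroup.mem_centralizer_iff.1 (h1 (Subgroup.mem_top g)) z hzV).symm
  haveI := H85.exists_zpowers_normal hcen
  exact normal_of_central_involution hP hc hO hz2 hcen
    (ih _ (card_quotient_lt _ (by
      rw [Ne, Subgroup.zpowers_eq_bot]
      intro h
      rw [h, orderOf_one] at hz2
      exact absurd hz2 (by norm_num))) _ rfl _ (hP.map _) (comm_map hab _)
      (hc.map (QuotientGroup.mk'_surjective _)))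

/-- An extremely closed abelian `2`-subgroup satisfies the condition. -/
theorem cond_of_extremelyClosed {G : Type u} [Group G] [Finite G] {H : Subgroup G}
    (hP : IsPGroup 2 H) (hab : ∀ a ∈ H, ∀ b ∈ H, a * b = b * a)
    (hcl : Cfsg.IsExtremelyClosed H) : Cond H := by
  classical
  haveI : Fact (Nat.Prime 2) := ⟨Nat.prime_two⟩
  intro g
  set L := H ⊔ cj g H with hL
  have hHL : H ≤ L := le_sup_left
  have hn : ∀ x ∈ L, x ∈ Subgroup.normalizer (H : Set G) → x ∈ H := fun x hx hx' => by
    have h1 : x ∈ L ⊓ Subgroup.normalizer (H : Set G) := ⟨hx, hx'⟩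
    rwa [hL, show (H ⊔ cj g H) ⊓ Subgroup.normalizer (H : Set G) = H from hcl g] at h1
  set H' := H.subgroupOf L with hH'
  -- `H` is a Sylow subgroup of the join, self-normalising
  have hself : Subgroup.normalizer (H' : Set L) ≤ H' := by
    intro x hx
    refine hn x x.2 (Subgroup.mem_normalizer_iff.2 fun y => ?_)
    constructor
    · intro hy
      exact (Subgroup.mem_normalizer_iff.1 hx ⟨y, hHL hy⟩).1 hy
    · intro hy
      have hyL : y ∈ L := by
        have h2 := mul_mem (mul_mem (inv_mem x.2) (hHL hy)) x.2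
        simpa [mul_assoc] using h2
      exact (Subgroup.mem_normalizer_iff.1 hx ⟨y, hyL⟩).2 hy
  obtain ⟨P, hPle⟩ := (isPGroup_subgroupOf hP hHL).exists_le_sylow
  have hPeq : (P : Subgroup L) = H' := by
    refine le_antisymm ?_ hPle
    by_contra hne
    haveI := P.2.isNilpotent
    set Q := H'.subgroupOf (P : Subgroup L) with hQ
    have hQlt : Q < ⊤ := lt_of_le_of_ne le_top fun h => hne fun x hx => by
      have h2 : (⟨x, hx⟩ : (P : Subgroup L)) ∈ Q := h ▸ Subgroup.mem_top _
      exact h2
    obtain ⟨x, hx, hxQ⟩ := SetLike.exists_of_lt (Group.normalizerCondition_of_isNilpotent Q hQlt)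
    refine hxQ (hself (Subgroup.mem_normalizer_iff.2 fun y => ?_))
    constructor
    · intro hy
      exact (Subgroup.mem_normalizer_iff.1 hx ⟨y, hPle hy⟩).1 hy
    · intro hy
      have hyP : y ∈ (P : Subgroup L) := by
        have h2 := mul_mem (mul_mem (inv_mem x.2) (hPle hy)) x.2
        simpa [mul_assoc] using h2
      exact (Subgroup.mem_normalizer_iff.1 hx ⟨y, hyP⟩).2 hy
  have hburn : Subgroup.normalizer ((P : Subgroup L) : Set L) ≤
      Subgroup.centralizer ((P : Subgroup L) : Set L) := by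
    rw [hPeq]
    intro x hx
    exact Subgroup.mem_centralizer_iff.2 fun y hy => Subtype.ext (hab y hy x (hself hx))
  have hcomp := MonoidHom.ker_transferSylow_isComplement' P hburn
  set K := (MonoidHom.transferSylow P hburn).ker with hK
  have hKc : Nat.card K * Nat.card (P : Subgroup L) = Nat.card L := hcomp.card_mul_card
  have hKodd : Odd (Nat.card K) := by
    rw [← Nat.not_even_iff_odd, even_iff_two_dvd]
    intro h2
    have h3 := P.not_dvd_index
    rw [← (P : Subgroup L).card_mul_index, mul_comm (Nat.card K)] at hKc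
    exact h3 (Nat.eq_of_mul_eq_mul_left Nat.card_pos hKc ▸ h2)
  refine ⟨K.map L.subtype, Subgroup.map_subtype_le _, odd_card_map hKodd _, ?_, ?_⟩
  · have h := Subgroup.le_normalizer_map (H := K) L.subtype
    rwa [Subgroup.normalizer_eq_top, ← MonoidHom.range_eq_map, Subgroup.range_subtype] at h
  · intro x hx
    obtain ⟨⟨k, p⟩, hkp, -⟩ := Subgroup.isComplement'_def.1 hcomp |>.existsUnique ⟨x, le_sup_right (a := H) hx⟩
    have hp : (p : L) ∈ H' := hPeq ▸ p.2
    rw [show x = ((k : L) : G) * ((p : L) : G) from (congrArg Subtype.val hkp).symm]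
    exact Subgroup.mul_mem_sup ⟨k, k.2, rfl⟩ hp

/-- `G = N(H) O(G)` for an extremely closed abelian `2`-subgroup `H`. -/
theorem normalizer_sup_core_eq_top {G : Type u} [Group G] [Finite G] {H : Subgroup G}
    (hP : IsPGroup 2 H) (hab : ∀ a ∈ H, ∀ b ∈ H, a * b = b * a)
    (hcl : Cfsg.IsExtremelyClosed H) :
    Subgroup.normalizer (H : Set G) ⊔ Cfsg.pPrimeCore 2 G = ⊤ := by
  refine eq_top_iff.2 fun g _ => ?_
  obtain ⟨m, hm, hn⟩ :=
    factorises_abelian _ G rfl H hP hab (cond_of_extremelyClosed hP hab hcl) g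
  rw [show g = m * (m⁻¹ * g) by group]
  exact mul_mem (Subgroup.mem_sup_right hm) (Subgroup.mem_sup_left hn)

end H68.EC
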