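import Cfsg.Agent.H68.ExtClosed.Basic
import Cfsg.Agent.H85.ZStar

/-!
Odd cores of subgroups, and the reductions to a trivial odd core, no central involution and
normal closure the whole group.
-/

set_option autoImplicit false
set_option linter.style.haveILetI false

namespace H68.EC

open H70

universe u

variable {G : Type u} [Group G]

/-- The odd core of a subgroup, as a subgroup of `G`. -/
def coreIn (S : Subgroup G) : Subgroup G := (Cfsg.pPrimeCore 2 S).map S.subtype

theorem coreIn_le (S : Subgroup G) : coreIn S ≤ S := Subgroup.map_subtype_le _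

theorem odd_coreIn [Finite G] (S : Subgroup G) : Odd (Nat.card (coreIn S)) :=
  odd_card_map odd_pPrimeCore _

theorem le_normalizer_coreIn (S : Subgroup G) : S ≤ Subgroup.normalizer (coreIn S : Set G) := by
  haveI := H1.pPrimeCore_normal' 2 S
  have h := Subgroup.le_normalizer_map (H := Cfsg.pPrimeCore 2 S) S.subtype
  rwa [Subgroup.normalizer_eq_top, ← MonoidHom.range_eq_map, Subgroup.range_subtype] at h

theorem le_coreIn [Finite G] {S X : Subgroup G} (hXS : X ≤ S) (hX : Odd (Nat.card X))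
    (hn : S ≤ Subgroup.normalizer (X : Set G)) : X ≤ coreIn S := by
  intro x hx
  haveI : (X.subgroupOf S).Normal := Subgroup.normal_subgroupOf_of_le_normalizer hn
  refine ⟨⟨x, hXS hx⟩, H1.le_pPrimeCore (N := X.subgroupOf S) ?_ hx, rfl⟩
  rw [Nat.card_congr (Subgroup.subgroupOfEquivOfLe hXS).toEquiv, Nat.coprime_two_right]
  exact hX

theorem coreIn_inf_le [Finite G] {L X : Subgroup G} (h : L ≤ X) : coreIn X ⊓ L ≤ coreIn L := by
  refine le_coreIn inf_le_right (odd_card_of_le inf_le_left (odd_coreIn X)) ?_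
  intro l hl
  rw [Subgroup.mem_normalizer_iff]
  intro x
  exact and_congr (Subgroup.mem_normalizer_iff.1 (h.trans (le_normalizer_coreIn X) hl) x)
    (Subgroup.mem_normalizer_iff.1 (Subgroup.le_normalizer hl) x)

/-- The factorisation read inside a subgroup. -/
theorem exists_coreIn_mul {H S : Subgroup G} (hHS : H ≤ S) (h : Factorises (H.subgroupOf S))
    {x : G} (hx : x ∈ S) :
    ∃ m ∈ coreIn S, m⁻¹ * x ∈ Subgroup.normalizer (H : Set G) := by
  obtain ⟨m, hm, hn⟩ := h ⟨x, hx⟩
  refine ⟨m, ⟨m, hm, rfl⟩, Subgroup.mem_normalizer_iff.2 fun y => ?_⟩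
  have hmem : (m : G)⁻¹ * x ∈ S := mul_mem (inv_mem m.2) hx
  constructor
  · intro hy
    exact (Subgroup.mem_normalizer_iff.1 hn ⟨y, hHS hy⟩).1 hy
  · intro hy
    have hyS : y ∈ S := by
      have h2 := mul_mem (mul_mem (inv_mem hmem) (hHS hy)) hmem
      simpa [mul_assoc] using h2
    exact (Subgroup.mem_normalizer_iff.1 hn ⟨y, hyS⟩).2 hy

theorem factorises_of_normal {H : Subgroup G} (h : H.Normal) : Factorises H := fun g =>
  ⟨1, one_mem _, by rw [Subgroup.normalizer_eq_top_iff.2 h]; trivial⟩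

/-- Passing to the quotient by a normal subgroup of odd order. -/
theorem factorises_of_quotient [Finite G] {H : Subgroup G} (hH : IsPGroup 2 H) (M : Subgroup G)
    [M.Normal] (hM : Odd (Nat.card M))
    (h : Factorises (H.map (QuotientGroup.mk' M))) : Factorises H := by
  intro g
  obtain ⟨m', hm', hn⟩ := h (QuotientGroup.mk' M g)
  have hMc : (Nat.card M).Coprime 2 := Nat.coprime_two_right.2 hM
  rw [H1.pPrimeCore_quotient 2 M hMc] at hm'
  obtain ⟨m, hm, rfl⟩ := hm'
  rw [← map_inv, ← map_mul] at hn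
  set g' := m⁻¹ * g with hg'
  have hle : cj g' H ≤ M ⊔ H := by
    intro x hx
    have h1 : QuotientGroup.mk' M x ∈ cj (QuotientGroup.mk' M g') (H.map (QuotientGroup.mk' M)) := by
      rw [← map_cj]
      exact ⟨x, hx, rfl⟩
    rw [cj_eq_self_iff.2 hn] at h1
    obtain ⟨y, hy, he⟩ := h1
    have h2 : x * y⁻¹ ∈ M := by
      rw [← QuotientGroup.eq_one_iff]
      show QuotientGroup.mk' M (x * y⁻¹) = 1
      rw [map_mul, map_inv, he, mul_inv_cancel]
    simpa using Subgroup.mul_mem_sup h2 hy
  obtain ⟨k, hk, hkH⟩ := exists_conj_of_le_sup hH (hH.map _) hM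
    (by rw [Subgroup.normalizer_eq_top]; exact le_top) hle (card_cj g' H)
  refine ⟨m * k, mul_mem hm (H1.le_pPrimeCore hMc hk), cj_eq_self_iff.1 ?_⟩
  rw [show (m * k)⁻¹ * g = k⁻¹ * g' by rw [hg']; group, ← cj_cj]
  rw [show cj g' H = cj k H from hkH.symm, cj_cj, inv_mul_cancel, cj_one]

theorem odd_orderOf_sq_of_two {z : G} (hz : z * z = 1) {x : G} [Finite G] {k : ℕ} (hk : Odd k)
    (h : x ^ k ∈ Subgroup.zpowers z) : Odd (orderOf (x * x)) := by
  have h1 : (x * x) ^ k = 1 := by
    rw [← pow_two, ← pow_mul, mul_comm, pow_mul]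
    obtain ⟨j, hj⟩ := Subgroup.mem_zpowers_iff.1 h
    rw [← hj, pow_two, ← (Commute.refl z).mul_zpow, hz, one_zpow]
  exact hk.of_dvd_nat (orderOf_dvd_of_pow_eq_one h1)

/-- The odd core of the quotient by a central involution. -/
theorem core_quotient_two [Finite G] (hO : Cfsg.pPrimeCore 2 G = ⊥) {z : G} (hz : orderOf z = 2)
    [(Subgroup.zpowers z).Normal] : Cfsg.pPrimeCore 2 (G ⧸ Subgroup.zpowers z) = ⊥ := by
  have hzz := H66.mul_self_of_orderOf_two hz
  refine (Subgroup.eq_bot_iff_forall _).2 fun x' hx' => ?_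
  obtain ⟨x, rfl⟩ := QuotientGroup.mk'_surjective _ x'
  have hodd : Odd (orderOf (QuotientGroup.mk' (Subgroup.zpowers z) x)) :=
    odd_orderOf_of_mem odd_pPrimeCore hx'
  have hpow : x ^ orderOf (QuotientGroup.mk' (Subgroup.zpowers z) x) ∈ Subgroup.zpowers z := by
    rw [← QuotientGroup.eq_one_iff]
    show QuotientGroup.mk' (Subgroup.zpowers z) _ = 1
    rw [map_pow, pow_orderOf_eq_one]
  have h1 := H85.mem_core_of_quotient_two (by rw [Nat.card_zpowers, hz])
    (odd_orderOf_sq_of_two hzz hodd hpow) (w := x * x) (by rw [map_mul]; exact mul_mem hx' hx')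
  rw [hO, Subgroup.mem_bot] at h1
  refine eq_one_of_pow_two_pow hodd (n := 1) ?_
  rw [← map_pow, pow_one, pow_two, h1, map_one]

/-- A central involution normalised away. -/
theorem normal_of_central_involution [Finite G] {H : Subgroup G} (hH : IsPGroup 2 H)
    (hc : Cond H) (hO : Cfsg.pPrimeCore 2 G = ⊥) {z : G} (hz : orderOf z = 2)
    [(Subgroup.zpowers z).Normal] (hcen : z ∈ Subgroup.center G)
    (h : Factorises (H.map (QuotientGroup.mk' (Subgroup.zpowers z)))) : H.Normal := by
  refine normal_of_forall_cj fun g => cj_eq_of_le_normalizer hH hc fun x hx => ?_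
  obtain ⟨m', hm', hn⟩ := h (QuotientGroup.mk' _ g)
  rw [core_quotient_two hO hz, Subgroup.mem_bot] at hm'
  rw [hm', inv_one, one_mul] at hn
  have h1 : QuotientGroup.mk' (Subgroup.zpowers z) x ∈
      cj (QuotientGroup.mk' _ g) (H.map (QuotientGroup.mk' (Subgroup.zpowers z))) := by
    rw [← map_cj]
    exact ⟨x, hx, rfl⟩
  rw [cj_eq_self_iff.2 hn] at h1
  obtain ⟨y, hy, he⟩ := h1
  have h2 : x * y⁻¹ ∈ Subgroup.zpowers z := by
    rw [← QuotientGroup.eq_one_iff]
    show QuotientGroup.mk' (Subgroup.zpowers z) (x * y⁻¹) = 1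
    rw [map_mul, map_inv, he, mul_inv_cancel]
  have h3 : Subgroup.zpowers z ≤ Subgroup.normalizer (H : Set G) := by
    rw [Subgroup.zpowers_le, Subgroup.mem_normalizer_iff]
    intro a
    rw [← Subgroup.mem_center_iff.1 hcen a, mul_inv_cancel_right]
  simpa using mul_mem (h3 h2) (Subgroup.le_normalizer hy)

/-- The normal closure may be assumed to be the whole group. -/
theorem normal_of_normal_overgroup [Finite G] {H : Subgroup G} (hH : IsPGroup 2 H) (hc : Cond H)
    (hO : Cfsg.pPrimeCore 2 G = ⊥) (S : Subgroup G) [hS : S.Normal] (hHS : H ≤ S)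
    (h : Factorises (H.subgroupOf S)) : H.Normal := by
  have hcore : coreIn S = ⊥ := by
    rw [← le_bot_iff, ← hO]
    haveI : (coreIn S).Normal := by
      haveI := H1.pPrimeCore_characteristic 2 S
      exact H1.map_subtype_normal_of_characteristic S _
    exact H1.le_pPrimeCore (Nat.coprime_two_right.2 (odd_coreIn S))
  refine normal_of_forall_cj fun g => cj_eq_of_le_normalizer hH hc fun x hx => ?_
  have hxS : x ∈ S := by
    have h2 := hS.conj_mem _ (hHS (mem_cj.1 hx)) g
    simpa [mul_assoc] using h2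
  obtain ⟨m, hm, hn⟩ := exists_coreIn_mul hHS h hxS
  rw [hcore, Subgroup.mem_bot] at hm
  simpa [hm] using hn

end H68.EC
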